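import Cfsg.Agent.Lib.GL23.PSL33.Model
import Cfsg.Agent.Lib.Involutions.Transfer
import Mathlib.GroupTheory.Sylow
import Mathlib.GroupTheory.SpecificGroups.Cyclic

/-!
A group of order `5616` in which all involutions are conjugate and one centralizer is `GL(2, 3)`:
the centralizers of the elements of order three commuting with involutions.
-/

set_option autoImplicit false
set_option linter.style.haveILetI false

namespace CfsgLib.GL23.PSL33

open Subgroup

theorem t_central : ∀ x ∈ gl, tmul x (2, 0, 0, 2) = tmul (2, 0, 0, 2) x := by decide +kernel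

theorem mH_central (a : M) : a * mH = mH * a :=
  coords_injective (by
    rw [coords_mul, coords_mul, coords_consts.1]; exact t_central _ (mem_gl _))

theorem t_cent_three : ∀ x ∈ gl, tmul (tmul x x) x = (1, 0, 0, 1) →
    tmul x (1, 1, 0, 1) = tmul (1, 1, 0, 1) x →
    x = (1, 0, 0, 1) ∨ x = (1, 1, 0, 1) ∨ x = (1, 2, 0, 1) := by decide +kernel

theorem t_sq_mH : ∀ x ∈ gl, tmul x x = (2, 0, 0, 2) →
    tmul x (1, 1, 0, 1) ≠ tmul (1, 1, 0, 1) x := by decide +kernel

theorem sq_ne_mH {x : M} (h : x * mU = mU * x) : x * x ≠ mH := by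
  intro h2
  obtain ⟨cH, -, -, cU, -⟩ := coords_consts
  refine t_sq_mH (coords x) (mem_gl _) ?_ ?_
  · rw [← coords_mul, h2, cH]
  · rw [← cU, ← coords_mul, h, coords_mul]

theorem pow_three_of_odd {a : M} (h : Odd (orderOf a)) : a ^ 3 = 1 := by
  have hd : orderOf a ∣ 16 * 3 := by
    rw [show 16 * 3 = Nat.card M from card_M.symm]
    exact orderOf_dvd_natCard a
  exact orderOf_dvd_iff_pow_eq_one.1
    ((Nat.Coprime.pow_right 4 (Nat.coprime_two_right.2 h)).dvd_of_dvd_mul_left hd)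

theorem eq_one_of_odd_sq {H : Type*} [Group H] {x : H} (h2 : x * x = 1) (h : Odd (orderOf x)) :
    x = 1 := by
  have hd : orderOf x ∣ 2 := orderOf_dvd_of_pow_eq_one (by rw [pow_two, h2])
  rcases (Nat.dvd_prime Nat.prime_two).1 hd with h1 | h1
  · exact orderOf_eq_one_iff.1 h1
  · rw [h1] at h; exact absurd h (by decide)

theorem odd_conj {H : Type*} [Group H] (q : H) {x : H} (h : Odd (orderOf x)) :
    Odd (orderOf (q * x * q⁻¹)) := by
  rw [← MulAut.conj_apply, MulEquiv.orderOf_eq]; exact h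

theorem odd_of_pow_three {H : Type*} [Group H] {x : H} (h : x ^ 3 = 1) : Odd (orderOf x) :=
  Odd.of_dvd_nat (by decide) (orderOf_dvd_of_pow_eq_one h)

theorem comm_conj_iff {H : Type*} [Group H] (q x y : H) :
    q⁻¹ * x * q * y = y * (q⁻¹ * x * q) ↔ x * (q * y * q⁻¹) = q * y * q⁻¹ * x := by
  constructor <;> intro h
  · calc x * (q * y * q⁻¹) = q * (q⁻¹ * x * q * y) * q⁻¹ := by group
      _ = q * (y * (q⁻¹ * x * q)) * q⁻¹ := by rw [h]
      _ = q * y * q⁻¹ * x := by group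
  · calc q⁻¹ * x * q * y = q⁻¹ * (x * (q * y * q⁻¹)) * q := by group
      _ = q⁻¹ * (q * y * q⁻¹ * x) * q := by rw [h]
      _ = y * (q⁻¹ * x * q) := by group

/-- The hypotheses. -/
structure Ctx (G : Type*) [Group G] where
  /-- The centralizer. -/
  φ : M →* G
  inj : Function.Injective φ
  range : ∀ x : G, x * φ mH = φ mH * x → ∃ a, φ a = x
  fused : ∀ x : G, x * x = 1 → x ≠ 1 → ∃ k : G, k * x * k⁻¹ = φ mH
  card : Nat.card G = 5616

namespace Ctx

variable {G : Type*} [Group G] (C : Ctx G)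

theorem conj_eq {a x y : M} (h : a * x * a⁻¹ = y) : C.φ a * C.φ x * (C.φ a)⁻¹ = C.φ y := by
  rw [← map_inv, ← map_mul, ← map_mul, h]

theorem comm_mH (a : M) : C.φ a * C.φ mH = C.φ mH * C.φ a := by
  rw [← map_mul, mH_central, map_mul]

theorem comm_of_eq {a b : M} (h : C.φ a * C.φ b = C.φ b * C.φ a) : a * b = b * a :=
  C.inj (by rw [map_mul, map_mul, h])

/-- An element centralizing both basic involutions. -/
theorem four_of_comm {x : G} (hH : x * C.φ mH = C.φ mH * x) (hG : x * C.φ mG = C.φ mG * x) :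
    x = 1 ∨ x = C.φ mH ∨ x = C.φ mG ∨ x = C.φ (mH * mG) := by
  obtain ⟨a, rfl⟩ := C.range x hH
  rcases commute_mG (C.comm_of_eq hG) with rfl | rfl | rfl | rfl <;> simp

theorem one_of_odd_four {x : G} (ho : Odd (orderOf x)) (hH : x * C.φ mH = C.φ mH * x)
    (hG : x * C.φ mG = C.φ mG * x) : x = 1 := by
  refine eq_one_of_odd_sq ?_ ho
  rcases C.four_of_comm hH hG with rfl | rfl | rfl | rfl
  · rw [one_mul]
  all_goals rw [← map_mul, ← C.φ.map_one]
  all_goals exact congrArg _ (by decide +kernel)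

theorem exists_c : ∃ c : G, c * C.φ mH * c⁻¹ = C.φ mG ∧ c * C.φ mG * c⁻¹ = C.φ (mH * mG) ∧
    c * C.φ (mH * mG) * c⁻¹ = C.φ mH ∧ c * c * c = 1 ∧ C.φ mW * c * (C.φ mW * c) = C.φ mG := by
  obtain ⟨hH2, hG2, hH1, hG1, hGH, -, -, hW2, hWH, hWG, -, -, hHG, -⟩ := rels
  obtain ⟨k, hk⟩ := C.fused (C.φ mG) (by rw [← map_mul, hG2, map_one])
    fun h => hG1 (C.inj (by rw [h, map_one]))
  have hx : k * C.φ mH * k⁻¹ * C.φ mH = C.φ mH * (k * C.φ mH * k⁻¹) := by
    have := ((show Commute (C.φ mH) (C.φ mG) by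
      rw [Commute, SemiconjBy, ← map_mul, hHG, map_mul]).map (MulAut.conj k).toMonoidHom).eq
    simpa only [MulEquiv.coe_toMonoidHom, MulAut.conj_apply, hk] using this
  obtain ⟨a, ha⟩ := C.range _ hx
  obtain ⟨b, hb⟩ := exists_conj_mG (x := a)
    (C.inj (by rw [map_mul, ha, map_one,
      show k * C.φ mH * k⁻¹ * (k * C.φ mH * k⁻¹) = k * (C.φ mH * C.φ mH) * k⁻¹ by group,
      ← map_mul, hH2, map_one]; group))
    (fun h => hH1 (C.inj (by
      rw [h, map_one, eq_comm, mul_inv_eq_one] at ha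
      rw [map_one]; exact mul_left_cancel (ha.trans (mul_one k).symm))))
    (fun h => hGH (C.inj (mul_left_cancel (mul_right_cancel
      (hk.trans (by rw [← ha, h]) : k * C.φ mG * k⁻¹ = k * C.φ mH * k⁻¹)))))
  -- `s` interchanges the two involutions
  obtain ⟨s, sH, sG⟩ : ∃ s : G, s * C.φ mH * s⁻¹ = C.φ mG ∧ s * C.φ mG * s⁻¹ = C.φ mH := by
    refine ⟨C.φ b⁻¹ * k, ?_, ?_⟩
    · calc C.φ b⁻¹ * k * C.φ mH * (C.φ b⁻¹ * k)⁻¹
          = C.φ b⁻¹ * (k * C.φ mH * k⁻¹) * (C.φ b⁻¹)⁻¹ := by group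
        _ = C.φ mG := by rw [← ha, ← map_inv, ← map_mul, ← map_mul, inv_inv, hb]
    · calc C.φ b⁻¹ * k * C.φ mG * (C.φ b⁻¹ * k)⁻¹
          = C.φ b⁻¹ * (k * C.φ mG * k⁻¹) * (C.φ b⁻¹)⁻¹ := by group
        _ = C.φ mH := by rw [hk, C.comm_mH, mul_inv_cancel_right]
  have hWH' := C.conj_eq (show mW * mH * mW⁻¹ = mH by rw [hWH, mul_inv_cancel_right])
  have hWG' := C.conj_eq hWG
  have hWGG' : C.φ mW * C.φ (mH * mG) * (C.φ mW)⁻¹ = C.φ mG := by
    exact C.conj_eq (by decide +kernel)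
  have sHG : s * C.φ (mH * mG) * s⁻¹ = C.φ (mH * mG) := by
    rw [map_mul, show s * (C.φ mH * C.φ mG) * s⁻¹ = s * C.φ mH * s⁻¹ * (s * C.φ mG * s⁻¹) by group,
      sH, sG, ← map_mul, ← hHG, map_mul]
  have comp : ∀ (p q x : G), p * q * x * (p * q)⁻¹ = p * (q * x * q⁻¹) * p⁻¹ := fun p q x => by
    group
  have key : ∀ c : G, c * C.φ mH * c⁻¹ = C.φ mG → c * C.φ mG * c⁻¹ = C.φ (mH * mG) →
      c * C.φ (mH * mG) * c⁻¹ = C.φ mH → c * c * c = 1 ∧
      (C.φ mW * c * (C.φ mW * c) = 1 ∨ C.φ mW * c * (C.φ mW * c) = C.φ mG) := by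
    intro c cH cG cHG
    have hne : C.φ mH ≠ C.φ mG ∧ C.φ (mH * mG) ≠ C.φ mH ∧ C.φ mG ≠ C.φ (mH * mG) := by
      refine ⟨?_, ?_, ?_⟩ <;> refine fun h => ?_ <;> have := C.inj h <;>
        revert this <;> decide +kernel
    refine ⟨?_, ?_⟩
    · have hH : c * c * c * C.φ mH = C.φ mH * (c * c * c) := by
        rw [← mul_inv_eq_iff_eq_mul, comp (c * c) c, cH, comp c c, cG, cHG]
      have hG : c * c * c * C.φ mG = C.φ mG * (c * c * c) := by
        rw [← mul_inv_eq_iff_eq_mul, comp (c * c) c, cG, comp c c, cHG, cH]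
      have hc : c * (c * c * c) * c⁻¹ = c * c * c := by group
      rcases C.four_of_comm hH hG with h | h | h | h
      · exact h
      · rw [h, cH] at hc; exact absurd hc.symm hne.1
      · rw [h, cG] at hc; exact absurd hc.symm hne.2.2
      · rw [h, cHG] at hc; exact absurd hc.symm hne.2.1
    · set d := C.φ mW * c with hd
      have dH : d * C.φ mH * d⁻¹ = C.φ (mH * mG) := by rw [hd, comp, cH, hWG']
      have dG : d * C.φ mG * d⁻¹ = C.φ mG := by rw [hd, comp, cG, hWGG']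
      have dHG : d * C.φ (mH * mG) * d⁻¹ = C.φ mH := by rw [hd, comp, cHG, hWH']
      have hH : d * d * C.φ mH = C.φ mH * (d * d) := by
        rw [← mul_inv_eq_iff_eq_mul, comp, dH, dHG]
      have hG : d * d * C.φ mG = C.φ mG * (d * d) := by
        rw [← mul_inv_eq_iff_eq_mul, comp, dG, dG]
      have hc : d * (d * d) * d⁻¹ = d * d := by group
      rcases C.four_of_comm hH hG with h | h | h | h
      · exact Or.inl h
      · rw [h, dH] at hc; exact absurd hc hne.2.1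
      · exact Or.inr h
      · rw [h, dHG] at hc; exact absurd hc.symm hne.2.1
  have cH : s * C.φ mW * C.φ mH * (s * C.φ mW)⁻¹ = C.φ mG := by rw [comp, hWH', sH]
  have cG : s * C.φ mW * C.φ mG * (s * C.φ mW)⁻¹ = C.φ (mH * mG) := by rw [comp, hWG', sHG]
  have cHG : s * C.φ mW * C.φ (mH * mG) * (s * C.φ mW)⁻¹ = C.φ mH := by rw [comp, hWGG', sG]
  set c := s * C.φ mW
  obtain ⟨h3, hsq | hsq⟩ := key c cH cG cHG
  swap
  · exact ⟨c, cH, cG, cHG, h3, hsq⟩
  · have fixH : ∀ a : M, C.φ mH * C.φ a * (C.φ mH)⁻¹ = C.φ a := fun a => by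
      rw [← C.comm_mH, mul_inv_cancel_right]
    have cH' : c * C.φ mH * C.φ mH * (c * C.φ mH)⁻¹ = C.φ mG := by rw [comp, fixH, cH]
    have cG' : c * C.φ mH * C.φ mG * (c * C.φ mH)⁻¹ = C.φ (mH * mG) := by rw [comp, fixH, cG]
    have cHG' : c * C.φ mH * C.φ (mH * mG) * (c * C.φ mH)⁻¹ = C.φ mH := by rw [comp, fixH, cHG]
    obtain ⟨h3', -⟩ := key _ cH' cG' cHG'
    refine ⟨c * C.φ mH, cH', cG', cHG', h3', ?_⟩
    have dd : (C.φ mW * c)⁻¹ * C.φ mH * (C.φ mW * c) = C.φ (mH * mG) := by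
      have dHG : C.φ mW * c * C.φ (mH * mG) * (C.φ mW * c)⁻¹ = C.φ mH := by
        rw [comp, cHG, hWH']
      conv_lhs => rw [← dHG]
      group
    calc C.φ mW * (c * C.φ mH) * (C.φ mW * (c * C.φ mH))
        = C.φ mW * c * (C.φ mW * c) * ((C.φ mW * c)⁻¹ * C.φ mH * (C.φ mW * c)) * C.φ mH := by
          group
      _ = C.φ mG := by
          rw [hsq, dd, one_mul, ← map_mul]; exact congrArg _ (by decide +kernel)

/-- The odd part of the centralizer of `y`. -/
def K (y : G) : Subgroup G := closure {x | x * y = y * x ∧ Odd (orderOf x)}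

/-- An element of order three commuting with an involution. -/
def Trans (y : G) : Prop := y ^ 3 = 1 ∧ y ≠ 1 ∧ ∃ v : G, v * v = 1 ∧ v ≠ 1 ∧ v * y = y * v

theorem K_conj (q y : G) : K (q * y * q⁻¹) = (K y).map (MulAut.conj q).toMonoidHom := by
  rw [K, K, MonoidHom.map_closure]
  congr 1
  ext x
  simp only [Set.mem_setOf_eq, Set.mem_image, MulEquiv.coe_toMonoidHom, MulAut.conj_apply]
  constructor
  · rintro ⟨h, ho⟩
    refine ⟨q⁻¹ * x * q, ⟨(comm_conj_iff q x y).2 h, ?_⟩, by group⟩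
    simpa using odd_conj q⁻¹ ho
  · rintro ⟨z, ⟨h, ho⟩, rfl⟩
    exact ⟨((show Commute z y from h).map (MulAut.conj q).toMonoidHom).eq, odd_conj q ho⟩

theorem K_inv (y : G) : K y⁻¹ = K y := by
  unfold K
  congr 1
  ext x
  refine and_congr_left fun _ => ?_
  exact ⟨fun h => by simpa using (show Commute x y⁻¹ from h).inv_right.eq,
    fun h => (show Commute x y from h).inv_right.eq⟩

theorem trans_conj {y : G} (h : Trans y) (q : G) : Trans (q * y * q⁻¹) := by
  obtain ⟨h3, h1, v, hv2, hv1, hv⟩ := h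
  refine ⟨by rw [conj_pow, h3]; group, fun e => h1 ?_, q * v * q⁻¹, ?_, fun e => hv1 ?_,
    ((show Commute v y from hv).map (MulAut.conj q).toMonoidHom).eq⟩
  · exact mul_left_cancel ((mul_inv_eq_one.1 e).trans (mul_one q).symm)
  · rw [show q * v * q⁻¹ * (q * v * q⁻¹) = q * (v * v) * q⁻¹ by group, hv2]; group
  · exact mul_left_cancel ((mul_inv_eq_one.1 e).trans (mul_one q).symm)

theorem trans_inv {y : G} (h : Trans y) : Trans y⁻¹ := by
  obtain ⟨h3, h1, v, hv2, hv1, hv⟩ := h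
  exact ⟨by rw [inv_pow, h3, inv_one], inv_ne_one.2 h1, v, hv2, hv1,
    (show Commute v y from hv).inv_right.eq⟩

theorem trans_phi {a : M} (h3 : a ^ 3 = 1) (h1 : a ≠ 1) : Trans (C.φ a) := by
  obtain ⟨hH2, -, hH1, -⟩ := rels
  exact ⟨by rw [← map_pow, h3, map_one], fun h => h1 (C.inj (by rw [h, map_one])), C.φ mH,
    by rw [← map_mul, hH2, map_one], fun h => hH1 (C.inj (by rw [h, map_one])), (C.comm_mH a).symm⟩

theorem trans_U : Trans (C.φ mU) := C.trans_phi rels.2.2.2.2.2.2.1 rels.2.2.2.2.2.1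

theorem trans_L : Trans (C.φ mL) := C.trans_phi (by decide +kernel) (by decide +kernel)

include C in
theorem exists_conj_U {y : G} (h : Trans y) : ∃ q : G, q * C.φ mU * q⁻¹ = y := by
  obtain ⟨h3, h1, v, hv2, hv1, hv⟩ := h
  obtain ⟨k, hk⟩ := C.fused v hv2 hv1
  obtain ⟨a, ha⟩ := C.range (k * y * k⁻¹) (by
    rw [← hk]; exact ((show Commute v y from hv).symm.map (MulAut.conj k).toMonoidHom).eq)
  obtain ⟨b, hb⟩ := exists_conj_mU (x := a)
    (C.inj (by rw [map_pow, ha, conj_pow, h3, map_one]; group))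
    (fun e => h1 (by
      rw [e, map_one, eq_comm, mul_inv_eq_one] at ha
      exact mul_left_cancel (ha.trans (mul_one k).symm)))
  refine ⟨k⁻¹ * C.φ b, ?_⟩
  rw [← hb, map_mul, map_mul, map_inv, ha]
  group

section

variable [Finite G]

theorem exists_oddPart : ∃ K' : Subgroup G,
    (∀ x, x ∈ K' ↔ x * C.φ mU = C.φ mU * x ∧ Odd (orderOf x)) ∧ Nat.card K' ∣ 351 := by
  obtain ⟨hH2, -, hH1, -, -, -, -, -, -, -, -, hHU, -⟩ := rels
  set D := centralizer ({C.φ mU} : Set G) with hD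
  have hmemD : ∀ x, x ∈ D ↔ x * C.φ mU = C.φ mU * x := fun x => mem_centralizer_singleton_iff
  have hh : C.φ mH ∈ D := (hmemD _).2 (C.comm_mH mU).symm
  have ho : orderOf (C.φ mH) = 2 := by
    rw [orderOf_injective _ C.inj]; exact orderOf_eq_prime (by rw [pow_two, hH2]) hH1
  have h4 : ¬ 4 ∣ Nat.card D := by
    intro h4
    haveI : Fact (Nat.Prime 2) := ⟨Nat.prime_two⟩
    have hz : Nat.card (zpowers (⟨_, hh⟩ : D)) = 2 ^ 1 := by
      rw [Nat.card_zpowers, Subgroup.orderOf_mk, ho, pow_one]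
    obtain ⟨S, hS, hzS⟩ := Sylow.exists_subgroup_card_pow_succ (n := 1) h4 hz
    have hcomm := IsPGroup.commutative_of_card_eq_prime_sq hS
    have hsub : ∀ x ∈ S, (x : G) = 1 ∨ (x : G) = C.φ mH := by
      intro x hx
      have hc : (⟨x, hx⟩ : S) * ⟨⟨_, hh⟩, hzS (mem_zpowers _)⟩ =
          ⟨⟨_, hh⟩, hzS (mem_zpowers _)⟩ * ⟨x, hx⟩ := hcomm _ _
      obtain ⟨a, ha⟩ := C.range (x : G) (congrArg (fun z : S => ((z : D) : G)) hc)
      have hau : a * mU = mU * a := C.comm_of_eq (by rw [ha]; exact (hmemD _).1 x.2)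
      have h4x : x ^ 4 = 1 := by
        have := congrArg Subtype.val (pow_card_eq_one' (x := (⟨x, hx⟩ : S)))
        rw [hS] at this
        simpa using this
      have ha4 : a * a * (a * a) = 1 := C.inj (by
        rw [map_mul, map_mul, ha, map_one]
        simpa [pow_succ, mul_assoc] using congrArg Subtype.val h4x)
      rcases commute_mU ha4 (by rw [mul_assoc, hau, ← mul_assoc, hau, mul_assoc]) with h | h
      · rcases commute_mU h hau with rfl | rfl
        · exact Or.inl (by rw [← ha, map_one])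
        · exact Or.inr ha.symm
      · exact absurd h (sq_ne_mH hau)
    have hle : S ≤ zpowers (⟨_, hh⟩ : D) := by
      intro x hx
      rcases hsub x hx with h | h
      · rw [show x = 1 from Subtype.ext h]; exact one_mem _
      · rw [show x = (⟨_, hh⟩ : D) from Subtype.ext h]; exact mem_zpowers _
    have := card_le_of_le hle
    rw [hS, hz] at this
    norm_num at this
  have h2 : 2 ∣ Nat.card D := ho ▸ D.orderOf_dvd_natCard hh
  obtain ⟨m, hm⟩ := h2
  have hmodd : Odd m := by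
    rw [← Nat.not_even_iff_odd]
    exact fun ⟨l, hl⟩ => h4 ⟨l, by rw [hm, hl]; ring⟩
  obtain ⟨K', hK'⟩ := CfsgLib.Involutions.exists_index_two_of_card_eq_two_mul_odd hmodd hm
  have hcard : Nat.card K' = m := by
    have := K'.index_mul_card
    rw [hK', hm] at this
    omega
  refine ⟨K'.map D.subtype, fun x => ⟨?_, ?_⟩, ?_⟩
  · rintro ⟨x, hx, rfl⟩
    refine ⟨(hmemD _).1 x.2, ?_⟩
    show Odd (orderOf (x : G))
    rw [Subgroup.orderOf_coe]
    exact hmodd.of_dvd_nat (hcard ▸ K'.orderOf_dvd_natCard hx)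
  · rintro ⟨hx, j, hj⟩
    refine ⟨⟨x, (hmemD x).2 hx⟩, ?_, rfl⟩
    have hx1 : (⟨x, (hmemD x).2 hx⟩ : D) =
        (⟨x, (hmemD x).2 hx⟩ : D) ^ (j + 1) * (⟨x, (hmemD x).2 hx⟩ : D) ^ (j + 1) := by
      refine Subtype.ext ?_
      simp only [Subgroup.coe_mul, SubmonoidClass.coe_pow]
      rw [← pow_add, show j + 1 + (j + 1) = orderOf x + 1 by omega, pow_succ, pow_orderOf_eq_one,
        one_mul]
    rw [SetLike.mem_coe, hx1]
    exact mul_self_mem_of_index_two hK' _
  · rw [card_map_of_injective D.subtype_injective, hcard]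
    have h : m ∣ 16 * 351 := by
      rw [show 16 * 351 = Nat.card G from C.card.symm]
      exact (dvd_mul_left m 2).trans (hm ▸ D.card_subgroup_dvd_card)
    exact (Nat.Coprime.pow_right 4 (Nat.coprime_two_right.2 hmodd)).dvd_of_dvd_mul_left h

theorem mem_K_U {x : G} : x ∈ K (C.φ mU) ↔ x * C.φ mU = C.φ mU * x ∧ Odd (orderOf x) := by
  obtain ⟨K', hK', -⟩ := C.exists_oddPart
  have : K (C.φ mU) = K' := by
    rw [K, show {x | x * C.φ mU = C.φ mU * x ∧ Odd (orderOf x)} = (K' : Set G) from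
      Set.ext fun x => (hK' x).symm, closure_eq]
  rw [this, hK']

theorem card_K_U_dvd : Nat.card (K (C.φ mU)) ∣ 351 := by
  obtain ⟨K', hK', h⟩ := C.exists_oddPart
  have : K (C.φ mU) = K' := Subgroup.ext fun x => C.mem_K_U.trans (hK' x).symm
  rwa [this]

include C in
theorem mem_K {y : G} (hy : Trans y) {x : G} : x ∈ K y ↔ x * y = y * x ∧ Odd (orderOf x) := by
  obtain ⟨q, rfl⟩ := C.exists_conj_U hy
  rw [K_conj, mem_map_equiv, C.mem_K_U, MulAut.conj_symm_apply, comm_conj_iff]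
  refine and_congr_right fun _ => ⟨fun h => ?_, fun h => ?_⟩
  · have := odd_conj q h
    rwa [show q * (q⁻¹ * x * q) * q⁻¹ = x by group] at this
  · simpa using odd_conj q⁻¹ h

include C in
theorem card_K {y : G} (hy : Trans y) : Nat.card (K y) = Nat.card (K (C.φ mU)) := by
  obtain ⟨q, rfl⟩ := C.exists_conj_U hy
  rw [K_conj, card_map_of_injective (MulAut.conj q).injective]

end

end Ctx

end CfsgLib.GL23.PSL33
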