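import Cfsg.Agent.Lib.GL23.PSL33.Relations
import Cfsg.Agent.Lib.SLThreePresent.Bound
import Cfsg.Agent.Lib.SLThreePresent.Target
import Cfsg.Agent.Lib.Recog.CommutingGraphPSLThreeThree
import Cfsg.Agent.Classical.SLGen

/-!
`PSL(3, 3)` from the relations between the transvections.
-/

set_option autoImplicit false
set_option linter.style.haveILetI false

namespace CfsgLib.GL23.PSL33

open CfsgLib.SLThreePresent

section Transport

variable {A B : Type*} [Group A] [Group B] {F : Type*} [Field F]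
variable {X Y Z : F → A} {h g w c : A} {X' Y' Z' : F → B} {h' g' w' c' : B} {ω : F} {n N : ℕ}

/-- The relations descend along an injective map. -/
theorem roots_of_injective (f : A →* B) (hf : Function.Injective f)
    (D : Roots (f ∘ X) (f ∘ Y) (f ∘ Z) (f h) (f g) (f w) (f c) ω n N) :
    Roots X Y Z h g w c ω n N where
  g_def := hf (by simpa using D.g_def)
  Y_def a := hf (by simpa using D.Y_def a)
  Z_def a := hf (by simpa using D.Z_def a)
  map_add a b := hf (by simpa using D.map_add a b)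
  ω_ne := D.ω_ne
  ω_n := D.ω_n
  generate := D.generate
  N_pos := D.N_pos
  h_pow := hf (by simpa using D.h_pow)
  hX a := hf (by simpa using D.hX a)
  gX a := hf (by simpa using D.gX a)
  hg := hf (by simpa using D.hg.eq)
  c3 := hf (by simpa using D.c3)
  prod := hf (by simpa using D.prod)
  whw := hf (by simpa using D.whw)
  w_sq := hf (by simpa using D.w_sq)
  wc_sq := hf (by simpa using D.wc_sq)
  step := by
    obtain ⟨r, r', e⟩ := D.step
    exact ⟨r, r', hf (by simpa using e)⟩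

/-- Two systems of relations with the same `step` give one on pairs. -/
theorem roots_prod (D : Roots X Y Z h g w c ω n N) (D' : Roots X' Y' Z' h' g' w' c' ω n N)
    (r r' : F) (hs : w * X 1 * w = X r * h ^ n * w * X r')
    (hs' : w' * X' 1 * w' = X' r * h' ^ n * w' * X' r') :
    Roots (fun a => (X a, X' a)) (fun a => (Y a, Y' a)) (fun a => (Z a, Z' a))
      (h, h') (g, g') (w, w') (c, c') ω n N where
  g_def := Prod.ext D.g_def D'.g_def
  Y_def a := Prod.ext (D.Y_def a) (D'.Y_def a)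
  Z_def a := Prod.ext (D.Z_def a) (D'.Z_def a)
  map_add a b := Prod.ext (D.map_add a b) (D'.map_add a b)
  ω_ne := D.ω_ne
  ω_n := D.ω_n
  generate := D.generate
  N_pos := D.N_pos
  h_pow := Prod.ext D.h_pow D'.h_pow
  hX a := Prod.ext (D.hX a) (D'.hX a)
  gX a := Prod.ext (D.gX a) (D'.gX a)
  hg := Prod.ext D.hg.eq D'.hg.eq
  c3 := Prod.ext D.c3 D'.c3
  prod := Prod.ext D.prod D'.prod
  whw := Prod.ext D.whw D'.whw
  w_sq := Prod.ext D.w_sq D'.w_sq
  wc_sq := Prod.ext D.wc_sq D'.wc_sq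
  step := ⟨r, r', Prod.ext hs hs'⟩

end Transport

local notation "SL3" => Matrix.SpecialLinearGroup (Fin 3) (ZMod 3)
local notation "PSL3" => Matrix.ProjectiveSpecialLinearGroup (Fin 3) (ZMod 3)

theorem generate_zmod : ∀ t : ZMod 3, t ≠ 0 → ∃ j : ℕ, t = (-1 : ZMod 3) ^ j := by
  intro t ht
  rcases (show t = 1 ∨ t = -1 by revert t; decide) with rfl | rfl
  · exact ⟨0, rfl⟩
  · exact ⟨1, (pow_one _).symm⟩

theorem rootsSL : Roots (x12 : ZMod 3 → SL3) (fun t => cm * x12 t * cm⁻¹)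
    (fun t => wm * (cm * x12 t * cm⁻¹) * wm⁻¹) (dia (-1) (-1)) (dia 1 (-1)) wm cm
    (-1 : ZMod 3) 1 2 where
  g_def := by rw [cm_dia]; simp
  Y_def _ := rfl
  Z_def _ := rfl
  map_add := x12_add
  ω_ne := by decide
  ω_n := pow_one _
  generate := generate_zmod
  N_pos := Nat.succ_pos 1
  h_pow := by rw [dia_pow]; simp [dia_one]
  hX a := by rw [dia_x12]; simp
  gX a := by rw [dia_x12]; congr 1; simp
  hg := by rw [Commute, SemiconjBy, dia_mul, dia_mul]; simp
  c3 := cm_cube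
  prod := by rw [cm_dia, dia_mul, dia_mul]; simp [dia_one]
  whw := by simpa using wm_dia (-1 : (ZMod 3)ˣ)
  w_sq := by rw [pow_one]; exact wm_sq
  wc_sq := by rw [pow_one]; exact wm_cm_sq
  step := ⟨-1, -1, by rw [pow_one]; exact step_eq⟩

theorem mU_pow_add : ∀ a b : ZMod 3, mU ^ (a + b).val = mU ^ a.val * mU ^ b.val := by
  decide +kernel

theorem mG_mU_pow : ∀ a : ZMod 3,
    mG * mU ^ a.val * mG⁻¹ = mU ^ (((-1 : ZMod 3)⁻¹) * a).val := by decide +kernel

theorem mH_mU_pow : ∀ a : ZMod 3,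
    mH * mU ^ a.val * mH⁻¹ = mU ^ (((-1 : ZMod 3) ^ 2) * a).val := by decide +kernel

theorem step_M : mW * mU ^ (1 : ZMod 3).val * mW =
    mU ^ (-1 : ZMod 3).val * mH * mW * mU ^ (-1 : ZMod 3).val := by decide +kernel

theorem wUw : mW * mU ^ (-1 : ZMod 3).val * mW⁻¹ = mL := by decide +kernel

namespace Ctx

variable {G : Type*} [Group G] (C : Ctx G)

theorem rootsG {c : G} (cH : c * C.φ mH * c⁻¹ = C.φ mG) (cG : c * C.φ mG * c⁻¹ = C.φ (mH * mG))
    (c3 : c * c * c = 1) (hwc : C.φ mW * c * (C.φ mW * c) = C.φ mG) :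
    Roots (fun t : ZMod 3 => C.φ mU ^ t.val) (fun t => c * C.φ mU ^ t.val * c⁻¹)
      (fun t => C.φ mW * (c * C.φ mU ^ t.val * c⁻¹) * (C.φ mW)⁻¹) (C.φ mH) (C.φ mG) (C.φ mW) c
      (-1 : ZMod 3) 1 2 where
  g_def := cH
  Y_def _ := rfl
  Z_def _ := rfl
  map_add a b := by simp only [← map_pow, ← map_mul, mU_pow_add]
  ω_ne := by decide
  ω_n := pow_one _
  generate := generate_zmod
  N_pos := Nat.succ_pos 1
  h_pow := by rw [pow_two, ← map_mul, rels.1, map_one]
  hX a := by simp only [← map_pow, ← map_inv, ← map_mul, mH_mU_pow]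
  gX a := by simp only [← map_pow, ← map_inv, ← map_mul, mG_mU_pow]
  hg := by rw [Commute, SemiconjBy, ← map_mul, ← map_mul, mH_central]
  c3 := c3
  prod := by rw [cG, ← map_mul, ← map_mul, ← C.φ.map_one]; exact congrArg _ (by decide +kernel)
  whw := by rw [← map_inv, ← map_inv, ← map_mul, ← map_mul]; exact congrArg _ (by decide +kernel)
  w_sq := by rw [pow_one, ← map_mul]; exact congrArg _ (by decide +kernel)
  wc_sq := by rw [pow_one]; exact hwc
  step := ⟨-1, -1, by simp only [pow_one, ← map_pow, ← map_mul, step_M]⟩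

theorem card_sl : Nat.card SL3 = 5616 :=
  (Nat.card_congr CfsgLib.Recog.CommutingGraph.PSLThreeThree.toSL.toEquiv).symm.trans
    CfsgLib.Recog.CommutingGraph.PSLThreeThree.card_psl

include C in
theorem nonempty_equiv [Finite G] : Nonempty (G ≃* PSL3) := by
  obtain ⟨c, cH, cG, cHG, c3, hwc⟩ := C.exists_c
  obtain ⟨hA, hC, hR⟩ := C.relations cH cG cHG c3 hwc
  let P : Type _ := SL3 × G
  let S : Set P := {(x12 (1 : ZMod 3), C.φ mU ^ (1 : ZMod 3).val),
    (dia (-1) (-1), C.φ mH), (wm, C.φ mW), (cm, c)}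
  set Γ := Subgroup.closure S with hΓ
  have hx : ((x12 (1 : ZMod 3), C.φ mU ^ (1 : ZMod 3).val) : P) ∈ Γ :=
    Subgroup.subset_closure (by simp [S])
  have hh : ((dia (-1) (-1), C.φ mH) : P) ∈ Γ := Subgroup.subset_closure (by simp [S])
  have hw : ((wm, C.φ mW) : P) ∈ Γ := Subgroup.subset_closure (by simp [S])
  have hc : ((cm, c) : P) ∈ Γ := Subgroup.subset_closure (by simp [S])
  have hX : ∀ t : ZMod 3, ((x12 t, C.φ mU ^ t.val) : P) ∈ Γ := fun t => by
    have : ((x12 t, C.φ mU ^ t.val) : P) = (x12 (1 : ZMod 3), C.φ mU ^ (1 : ZMod 3).val) ^ t.val := by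
      refine Prod.ext ?_ ?_
      · show x12 t = x12 (1 : ZMod 3) ^ t.val
        rw [x12_pow, ZMod.natCast_zmod_val, mul_one]
      · show C.φ mU ^ t.val = (C.φ mU ^ (1 : ZMod 3).val) ^ t.val
        rw [ZMod.val_one, pow_one]
    rw [this]; exact pow_mem hx _
  let X' : ZMod 3 → Γ := fun t => ⟨_, hX t⟩
  let c' : Γ := ⟨_, hc⟩
  let w' : Γ := ⟨_, hw⟩
  let h' : Γ := ⟨_, hh⟩
  let g' : Γ := ⟨((dia 1 (-1), C.φ mG) : P), by
    have := mul_mem (mul_mem hc hh) (inv_mem hc)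
    rwa [show ((cm, c) : P) * (dia (-1) (-1), C.φ mH) * (cm, c)⁻¹ = (dia 1 (-1), C.φ mG) from
      Prod.ext rootsSL.g_def cH] at this⟩
  let Y' : ZMod 3 → Γ := fun t => c' * X' t * c'⁻¹
  let Z' : ZMod 3 → Γ := fun t => w' * Y' t * w'⁻¹
  have D : Roots X' Y' Z' h' g' w' c' (-1 : ZMod 3) 1 2 :=
    roots_of_injective Γ.subtype Γ.subtype_injective
      (roots_prod rootsSL (C.rootsG cH cG c3 hwc) (-1) (-1) (by rw [pow_one]; exact step_eq)
        (by simp only [pow_one, ← map_pow, ← map_mul, step_M]))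
  have hA' : X' 1 * Y' 1 * (X' 1)⁻¹ = Z' 1 * Y' 1 := Subtype.ext (Prod.ext
    (by
      show x12 (1 : ZMod 3) * (cm * x12 1 * cm⁻¹) * (x12 1)⁻¹ =
        wm * (cm * x12 1 * cm⁻¹) * wm⁻¹ * (cm * x12 1 * cm⁻¹)
      rw [cm_x12, form_eq, mul_one, wm_x23])
    (by
      show C.φ mU ^ (1 : ZMod 3).val * (c * C.φ mU ^ (1 : ZMod 3).val * c⁻¹) *
        (C.φ mU ^ (1 : ZMod 3).val)⁻¹ = C.φ mW * (c * C.φ mU ^ (1 : ZMod 3).val * c⁻¹) *
        (C.φ mW)⁻¹ * (c * C.φ mU ^ (1 : ZMod 3).val * c⁻¹)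
      rw [ZMod.val_one, pow_one]; exact hA))
  have hC' : Commute (X' 1) (c' * (w' * X' (-1) * w'⁻¹) * c'⁻¹) := Subtype.ext (Prod.ext
    (by
      show x12 (1 : ZMod 3) * (cm * (wm * x12 (-1) * wm⁻¹) * cm⁻¹) =
        cm * (wm * x12 (-1) * wm⁻¹) * cm⁻¹ * x12 1
      rw [wm_x12, neg_neg, cm_x21]; exact (x12_x32 _ _).eq)
    (by
      show C.φ mU ^ (1 : ZMod 3).val * (c * (C.φ mW * C.φ mU ^ (-1 : ZMod 3).val * (C.φ mW)⁻¹) * c⁻¹)
        = c * (C.φ mW * C.φ mU ^ (-1 : ZMod 3).val * (C.φ mW)⁻¹) * c⁻¹ * C.φ mU ^ (1 : ZMod 3).val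
      rw [← map_pow C.φ mU (-1 : ZMod 3).val, ← map_inv, ← map_mul, ← map_mul, wUw, ZMod.val_one,
        pow_one]
      exact hC.eq))
  have hR' : Commute (X' 1) (Z' 1) := Subtype.ext (Prod.ext
    (by
      show x12 (1 : ZMod 3) * (wm * (cm * x12 1 * cm⁻¹) * wm⁻¹) =
        wm * (cm * x12 1 * cm⁻¹) * wm⁻¹ * x12 1
      rw [cm_x12, wm_x23]; exact (x12_x13 _ _).eq)
    (by
      show C.φ mU ^ (1 : ZMod 3).val * (C.φ mW * (c * C.φ mU ^ (1 : ZMod 3).val * c⁻¹) * (C.φ mW)⁻¹)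
        = C.φ mW * (c * C.φ mU ^ (1 : ZMod 3).val * c⁻¹) * (C.φ mW)⁻¹ * C.φ mU ^ (1 : ZMod 3).val
      rw [ZMod.val_one, pow_one]
      exact hR.eq))
  have hz : Function.Surjective
      (Polynomial.aeval ((-1 : ZMod 3) ^ 3) : Polynomial (ZMod 3) → ZMod 3) :=
    fun a => ⟨Polynomial.C a, by simp⟩
  have E : Comms X' Y' Z' := D.comms hz hA' hC' (Or.inl hR')
  have hgen : Subgroup.closure ({X' 1, h', w', c'} : Set Γ) = ⊤ := by
    apply Subgroup.map_injective Γ.subtype_injective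
    rw [MonoidHom.map_closure, ← MonoidHom.range_eq_map, Subgroup.range_subtype]
    simp [Set.image_insert_eq, X', h', w', c', hΓ, S]
  obtain ⟨hfin, hle⟩ := D.card_le E hgen
  rw [ZMod.card] at hle
  let π : Γ →* SL3 := (MonoidHom.fst SL3 G).comp Γ.subtype
  have hπ : Function.Surjective π := by
    rw [← MonoidHom.range_eq_top]
    exact sl3_eq_top (fun t => ⟨X' t, rfl⟩) ⟨w', rfl⟩ ⟨c', rfl⟩
  have hbij : Function.Bijective π := (Nat.bijective_iff_surjective_and_card π).2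
    ⟨hπ, le_antisymm (hle.trans (by rw [card_sl]; norm_num)) (Nat.card_le_card_of_surjective π hπ)⟩
  let f : PSL3 →* G := (((MonoidHom.snd SL3 G).comp Γ.subtype).comp
    (MulEquiv.ofBijective π hbij).symm.toMonoidHom).comp
    CfsgLib.Recog.CommutingGraph.PSLThreeThree.toSL.toMonoidHom
  have hne : f (CfsgLib.Recog.CommutingGraph.PSLThreeThree.toSL.symm (x12 1)) ≠ 1 := by
    have : (MulEquiv.ofBijective π hbij).symm (x12 1) = X' 1 := by
      rw [MulEquiv.symm_apply_eq]; rfl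
    simp only [f, MonoidHom.comp_apply, MulEquiv.coe_toMonoidHom, MulEquiv.apply_symm_apply, this]
    show C.φ mU ^ (1 : ZMod 3).val ≠ 1
    rw [ZMod.val_one, pow_one]
    exact C.trans_U.2.1
  haveI : IsSimpleGroup PSL3 := Cfsg.Agent.Classical.psl_isSimpleGroup (by simp)
  have hinj : Function.Injective f := by
    rcases Subgroup.Normal.eq_bot_or_eq_top (inferInstance : f.ker.Normal) with h | h
    · exact (MonoidHom.ker_eq_bot_iff f).1 h
    · refine absurd ?_ hne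
      exact MonoidHom.mem_ker.1 (h ▸ Subgroup.mem_top _)
  exact ⟨(MulEquiv.ofBijective f (hinj.bijective_of_nat_card_le
    (by rw [C.card, CfsgLib.Recog.CommutingGraph.PSLThreeThree.card_psl]))).symm⟩

end Ctx

end CfsgLib.GL23.PSL33
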