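import Cfsg.Agent.Lib.GL23.Main

/-!
Facts about `GL(2, 3)` used in the recognition of `PSL(3, 3)` by the centralizer of an involution.
-/

set_option autoImplicit false

namespace CfsgLib.GL23.PSL33

/-- Minus the identity. -/
def mH : M := ⟨!![2, 0; 0, 2], !![2, 0; 0, 2], by decide +kernel, by decide +kernel⟩
/-- A diagonal involution. -/
def mG : M := ⟨!![1, 0; 0, 2], !![1, 0; 0, 2], by decide +kernel, by decide +kernel⟩
/-- The upper transvection. -/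
def mU : M := ⟨!![1, 1; 0, 1], !![1, 2; 0, 1], by decide +kernel, by decide +kernel⟩
/-- The lower transvection. -/
def mL : M := ⟨!![1, 0; 1, 1], !![1, 0; 2, 1], by decide +kernel, by decide +kernel⟩
/-- The monomial element of order four. -/
def mW : M := ⟨!![0, 1; 2, 0], !![0, 2; 1, 0], by decide +kernel, by decide +kernel⟩

theorem rels : mH * mH = 1 ∧ mG * mG = 1 ∧ mH ≠ 1 ∧ mG ≠ 1 ∧ mG ≠ mH ∧ mU ≠ 1 ∧ mU ^ 3 = 1 ∧
    mW * mW = mH ∧ mW * mH = mH * mW ∧ mW * mG * mW⁻¹ = mH * mG ∧ mG * mU * mG⁻¹ = mU⁻¹ ∧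
    mH * mU = mU * mH ∧ mH * mG = mG * mH ∧ mW * mU * mW⁻¹ = mL⁻¹ ∧ mU * mL ≠ mL * mU ∧
    mW = mU * mL⁻¹ * mU ∧ mW * mU * mW = mU⁻¹ * mH * mW * mU⁻¹ := by
  refine ⟨?_, ?_, ?_, ?_, ?_, ?_, ?_, ?_, ?_, ?_, ?_, ?_, ?_, ?_, ?_, ?_, ?_⟩ <;> decide +kernel

theorem coords_consts : coords mH = (2, 0, 0, 2) ∧ coords mG = (1, 0, 0, 2) ∧
    coords (mH * mG) = (2, 0, 0, 1) ∧ coords mU = (1, 1, 0, 1) ∧ coords mU⁻¹ = (1, 2, 0, 1) ∧
    coords mL = (1, 0, 1, 1) ∧ coords mL⁻¹ = (1, 0, 2, 1) := by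
  refine ⟨?_, ?_, ?_, ?_, ?_, ?_, ?_⟩ <;> decide +kernel

theorem t_involution : ∀ x ∈ gl, tmul x x = (1, 0, 0, 1) → x ≠ (1, 0, 0, 1) → x ≠ (2, 0, 0, 2) →
    ∃ a ∈ gl, tconj a x = (1, 0, 0, 2) := by decide +kernel

theorem t_centralizer_G : ∀ x ∈ gl, tmul x (1, 0, 0, 2) = tmul (1, 0, 0, 2) x →
    x = (1, 0, 0, 1) ∨ x = (2, 0, 0, 2) ∨ x = (1, 0, 0, 2) ∨ x = (2, 0, 0, 1) := by decide +kernel

theorem t_inverted : ∀ x ∈ gl, tmul (tmul x x) x = (1, 0, 0, 1) → x ≠ (1, 0, 0, 1) →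
    tmul x (1, 0, 0, 2) = tmul (1, 0, 0, 2) (tmul x x) →
    x = (1, 1, 0, 1) ∨ x = (1, 2, 0, 1) ∨ x = (1, 0, 1, 1) ∨ x = (1, 0, 2, 1) := by decide +kernel

theorem t_three : ∀ x ∈ gl, tmul (tmul x x) x = (1, 0, 0, 1) → x ≠ (1, 0, 0, 1) →
    ∃ a ∈ gl, tconj a x = (1, 1, 0, 1) := by decide +kernel

theorem t_centralizer_U : ∀ x ∈ gl, tmul x x = (1, 0, 0, 1) →
    tmul x (1, 1, 0, 1) = tmul (1, 1, 0, 1) x → x = (1, 0, 0, 1) ∨ x = (2, 0, 0, 2) := by
  decide +kernel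

theorem t_no_normal_three : ∀ x ∈ gl, tmul (tmul x x) x = (1, 0, 0, 1) → x ≠ (1, 0, 0, 1) →
    ∃ a ∈ gl, tconj a x ≠ x ∧ tconj a x ≠ tmul x x := by decide +kernel

theorem exists_conj_mG {x : M} (h2 : x * x = 1) (h1 : x ≠ 1) (hH : x ≠ mH) :
    ∃ a : M, a⁻¹ * x * a = mG := by
  obtain ⟨a, ha, he⟩ := t_involution (coords x) (mem_gl _)
    (by rw [← coords_mul, h2, coords_one]) (fun h => h1 (coords_injective (h.trans coords_one.symm)))
    (fun h => hH (coords_injective (h.trans coords_consts.1.symm)))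
  obtain ⟨a, rfl⟩ := exists_coords (Finset.mem_filter.1 ha).2
  exact ⟨a, coords_injective (by rw [coords_conj, he, coords_consts.2.1])⟩

theorem commute_mG {x : M} (h : x * mG = mG * x) : x = 1 ∨ x = mH ∨ x = mG ∨ x = mH * mG := by
  obtain ⟨cH, cG, cHG, -⟩ := coords_consts
  have := t_centralizer_G (coords x) (mem_gl _) (by rw [← cG, ← coords_mul, h, coords_mul])
  rw [← coords_one, ← cH, ← cG, ← cHG] at this
  rcases this with e | e | e | e <;> simp [coords_injective e]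

theorem inverted_mG {x : M} (h3 : x ^ 3 = 1) (h1 : x ≠ 1) (hx : mG * x * mG⁻¹ = x⁻¹) :
    x = mU ∨ x = mU⁻¹ ∨ x = mL ∨ x = mL⁻¹ := by
  obtain ⟨-, cG, -, cU, cU', cL, cL'⟩ := coords_consts
  have hx2 : x * x = x⁻¹ := eq_inv_of_mul_eq_one_left (by rw [← h3, pow_succ, pow_two])
  have hg : mG⁻¹ = mG := inv_eq_of_mul_eq_one_right rels.2.1
  have e : x * mG = mG * (x * x) := by
    rw [hx2, ← hx, hg, ← mul_assoc, ← mul_assoc, rels.2.1, one_mul]
  have := t_inverted (coords x) (mem_gl _)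
    (by rw [← coords_mul, ← coords_mul, ← coords_one, ← h3, pow_succ, pow_two])
    (fun h => h1 (coords_injective (h.trans coords_one.symm)))
    (by rw [← cG, ← coords_mul, ← coords_mul, ← coords_mul, e])
  rw [← cU, ← cU', ← cL, ← cL'] at this
  rcases this with e | e | e | e <;> simp [coords_injective e]

theorem exists_conj_mU {x : M} (h3 : x ^ 3 = 1) (h1 : x ≠ 1) : ∃ a : M, a⁻¹ * x * a = mU := by
  obtain ⟨a, ha, he⟩ := t_three (coords x) (mem_gl _)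
    (by rw [← coords_mul, ← coords_mul, ← coords_one, ← h3, pow_succ, pow_two])
    (fun h => h1 (coords_injective (h.trans coords_one.symm)))
  obtain ⟨a, rfl⟩ := exists_coords (Finset.mem_filter.1 ha).2
  exact ⟨a, coords_injective (by rw [coords_conj, he, coords_consts.2.2.2.1])⟩

theorem commute_mU {x : M} (h2 : x * x = 1) (h : x * mU = mU * x) : x = 1 ∨ x = mH := by
  obtain ⟨cH, -, -, cU, -⟩ := coords_consts
  have := t_centralizer_U (coords x) (mem_gl _) (by rw [← coords_mul, h2, coords_one])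
    (by rw [← cU, ← coords_mul, h, coords_mul])
  rw [← coords_one, ← cH] at this
  rcases this with e | e <;> simp [coords_injective e]

theorem no_normal_three {x : M} (h3 : x ^ 3 = 1) (h1 : x ≠ 1) :
    ∃ a : M, a⁻¹ * x * a ≠ x ∧ a⁻¹ * x * a ≠ x * x := by
  obtain ⟨a, ha, he, he'⟩ := t_no_normal_three (coords x) (mem_gl _)
    (by rw [← coords_mul, ← coords_mul, ← coords_one, ← h3, pow_succ, pow_two])
    (fun h => h1 (coords_injective (h.trans coords_one.symm)))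
  obtain ⟨a, rfl⟩ := exists_coords (Finset.mem_filter.1 ha).2
  exact ⟨a, fun e => he (by rw [← coords_conj, e]),
    fun e => he' (by rw [← coords_conj, e, coords_mul])⟩

end CfsgLib.GL23.PSL33
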