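import Cfsg.Agent.Lib.GL23.PSL33.Ctx
import Cfsg.Agent.Lib.InvChar.InvolutionCount
import Mathlib.GroupTheory.PGroup

/-!
The odd part of the centralizer of an element of order three commuting with an involution has order
`27`.
-/

set_option autoImplicit false
set_option linter.style.haveILetI false

namespace CfsgLib.GL23.PSL33.Ctx

open Subgroup

variable {G : Type*} [Group G] (C : Ctx G)

theorem conj_mem_K {v y x : G} (hy : v * y * v⁻¹ = y ∨ v * y * v⁻¹ = y⁻¹) (hx : x ∈ K y) :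
    v * x * v⁻¹ ∈ K y := by
  have h : v * x * v⁻¹ ∈ K (v * y * v⁻¹) := by
    rw [K_conj]; exact mem_map_of_mem _ hx
  rcases hy with e | e
  · rwa [e] at h
  · rwa [e, K_inv] at h

theorem H_inv_U : C.φ mH * C.φ mU * (C.φ mH)⁻¹ = C.φ mU :=
  C.conj_eq (by decide +kernel)

theorem G_inv_U : C.φ mG * C.φ mU * (C.φ mG)⁻¹ = (C.φ mU)⁻¹ := by
  rw [← map_inv C.φ mU]; exact C.conj_eq (by decide +kernel)

theorem HG_inv_U : C.φ (mH * mG) * C.φ mU * (C.φ (mH * mG))⁻¹ = (C.φ mU)⁻¹ := by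
  rw [← map_inv C.φ mU]; exact C.conj_eq (by decide +kernel)

theorem inv_elems {a : M} (h : a = mG ∨ a = mH * mG) : C.φ a * C.φ a = 1 ∧ C.φ a ≠ 1 ∧
    C.φ a * C.φ mU * (C.φ a)⁻¹ = (C.φ mU)⁻¹ ∧
    C.φ (mH * a) = C.φ mH * C.φ a ∧ (mH * a = mG ∨ mH * a = mH * mG) := by
  have h1 : ∀ b : M, b ≠ 1 → C.φ b ≠ 1 := fun b hb e => hb (C.inj (by rw [e, map_one]))
  rcases h with rfl | rfl
  · exact ⟨by rw [← map_mul, rels.2.1, map_one], h1 _ rels.2.2.2.1, C.G_inv_U, map_mul _ _ _,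
      Or.inr rfl⟩
  · exact ⟨by rw [← map_mul, ← C.φ.map_one]; exact congrArg _ (by decide +kernel),
      h1 _ (by decide +kernel), C.HG_inv_U, map_mul _ _ _, Or.inl (by decide +kernel)⟩

include C in
/-- The centralizer of an involution has order `48`. -/
theorem card_centralizer {v : G} (h2 : v * v = 1) (h1 : v ≠ 1) :
    Nat.card (centralizer ({v} : Set G)) = 48 := by
  obtain ⟨k, hk⟩ := C.fused v h2 h1
  have h : (centralizer ({v} : Set G)).map (MulAut.conj k).toMonoidHom = C.φ.range := by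
    ext x
    rw [mem_map_equiv, MulAut.conj_symm_apply, mem_centralizer_singleton_iff, comm_conj_iff, hk]
    exact ⟨fun h => C.range x h, by rintro ⟨a, rfl⟩; exact C.comm_mH a⟩
  have := congrArg (fun S : Subgroup G => Nat.card S) h
  rw [card_map_of_injective (MulAut.conj k).injective,
    Nat.card_congr (MonoidHom.ofInjective C.inj).toEquiv.symm, card_M] at this
  exact this

section

variable [Finite G]

/-- The fixed points of an involution on the odd part. -/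
theorem card_fixed_le {v : G} (h2 : v * v = 1) (h1 : v ≠ 1) :
    Nat.card (K (C.φ mU) ⊓ centralizer ({v} : Set G) : Subgroup G) ∣ 3 := by
  have hK : Nat.card (K (C.φ mU) ⊓ centralizer ({v} : Set G) : Subgroup G) ∣ 351 :=
    (card_dvd_of_le inf_le_left).trans C.card_K_U_dvd
  have h48 : Nat.card (K (C.φ mU) ⊓ centralizer ({v} : Set G) : Subgroup G) ∣ 48 :=
    C.card_centralizer h2 h1 ▸ card_dvd_of_le inf_le_right
  exact Nat.dvd_gcd hK h48

theorem u_mem : C.φ mU ∈ K (C.φ mU) :=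
  C.mem_K_U.2 ⟨rfl, odd_of_pow_three C.trans_U.1⟩

theorem nine_dvd : 9 ∣ Nat.card (K (C.φ mU)) := by
  haveI : Fact (Nat.Prime 3) := ⟨Nat.prime_three⟩
  set u := C.φ mU with hu
  obtain ⟨h3, h1, -⟩ := C.trans_U
  have hz : Nat.card (zpowers u) = 3 ^ 1 := by
    rw [Nat.card_zpowers, orderOf_eq_prime h3 h1, pow_one]
  obtain ⟨P, hP⟩ := (IsPGroup.of_card hz).exists_le_sylow
  have hPc : Nat.card (P : Subgroup G) = 3 ^ 3 := by
    have hd : 3 ^ 3 ∣ Nat.card G := by rw [C.card]; norm_num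
    obtain ⟨n, hn⟩ := IsPGroup.iff_card.1 P.isPGroup'
    have hdvd := (P : Subgroup G).card_subgroup_dvd_card
    rw [hn, C.card] at hdvd
    have hlow := P.pow_dvd_card_of_pow_dvd_card hd
    rw [hn] at hlow
    have h3n : 3 ≤ n := (Nat.pow_dvd_pow_iff_le_right (by norm_num)).1 hlow
    rcases Nat.lt_or_ge n 4 with h | h
    · rw [hn, show n = 3 by omega]
    · exact absurd ((pow_dvd_pow 3 h).trans hdvd) (by norm_num)
  have hodd : ∀ x ∈ (P : Subgroup G), Odd (orderOf x) := fun x hx =>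
    Odd.of_dvd_nat (by decide) (hPc ▸ (P : Subgroup G).orderOf_dvd_natCard hx)
  have huP : u ∈ (P : Subgroup G) := hP (mem_zpowers u)
  obtain ⟨n, hn⟩ := IsPGroup.iff_card.1 (P.isPGroup'.to_le
    (inf_le_left : (P : Subgroup G) ⊓ K u ≤ P))
  rcases Nat.lt_or_ge n 2 with h | h
  swap
  · exact (pow_dvd_pow 3 h).trans (hn ▸ card_dvd_of_le inf_le_right)
  · exfalso
    have : Nontrivial (P : Subgroup G) := ⟨⟨⟨u, huP⟩, 1, fun e => h1 (congrArg Subtype.val e)⟩⟩
    have hcn := P.isPGroup'.center_nontrivial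
    obtain ⟨⟨⟨z, hzP⟩, hzc⟩, hz1⟩ := exists_ne (1 : Subgroup.center (P : Subgroup G))
    have hzcomm : ∀ x ∈ (P : Subgroup G), x * z = z * x := fun x hx =>
      congrArg Subtype.val (mem_center_iff.1 hzc ⟨x, hx⟩)
    have hzI : z ∈ (P : Subgroup G) ⊓ K u :=
      ⟨hzP, C.mem_K_U.2 ⟨(hzcomm u huP).symm, hodd z hzP⟩⟩
    have huI : u ∈ (P : Subgroup G) ⊓ K u := ⟨huP, C.u_mem⟩
    have hcard : Nat.card ((P : Subgroup G) ⊓ K u : Subgroup G) = 3 := by
      interval_cases n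
      · rw [pow_zero, Subgroup.card_eq_one] at hn
        exact absurd (by rw [hn] at huI; exact (mem_bot.1 huI)) h1
      · simpa using hn
    obtain ⟨i, hi⟩ := mem_zpowers_iff.1 (mem_zpowers_of_prime_card hcard
      (g := (⟨z, hzI⟩ : ((P : Subgroup G) ⊓ K u : Subgroup G)))
      (g' := ⟨u, huI⟩) fun e => hz1 (Subtype.ext (Subtype.ext (congrArg Subtype.val e :))))
    have hall : (P : Subgroup G) ≤ (P : Subgroup G) ⊓ K u := fun x hx => by
      refine ⟨hx, C.mem_K_U.2 ⟨?_, hodd x hx⟩⟩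
      rw [show C.φ mU = z ^ i from (congrArg Subtype.val hi).symm]
      exact ((show Commute x z from hzcomm x hx).zpow_right i).eq
    have := card_le_of_le hall
    rw [hPc, hcard] at this
    norm_num at this

theorem not_thirteen_dvd : ¬ 13 ∣ Nat.card (K (C.φ mU)) := by
  intro h13
  haveI : Fact (Nat.Prime 13) := ⟨by norm_num⟩
  set Ku := K (C.φ mU) with hKu
  let P : Sylow 13 Ku := Classical.arbitrary _
  have hPc : Nat.card (P : Subgroup Ku) = 13 := by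
    obtain ⟨n, hn⟩ := IsPGroup.iff_card.1 P.isPGroup'
    have hd := (P : Subgroup Ku).card_subgroup_dvd_card.trans C.card_K_U_dvd
    have hl := P.pow_dvd_card_of_pow_dvd_card (n := 1) (by rwa [pow_one])
    rw [hn] at hl hd
    have h1 : 1 ≤ n := (Nat.pow_dvd_pow_iff_le_right (by norm_num)).1 hl
    rcases Nat.lt_or_ge n 2 with h | h
    · rw [hn, show n = 1 by omega, pow_one]
    · exact absurd ((pow_dvd_pow 13 h).trans hd) (by norm_num)
  set N := normalizer (P : Set Ku) with hN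
  let u' : Ku := ⟨C.φ mU, C.u_mem⟩
  have hu'c : ∀ x : Ku, u' * x = x * u' := fun x => Subtype.ext (C.mem_K_U.1 x.2).1.symm
  have hu'N : u' ∈ N := by
    show u' ∈ normalizer ((P : Subgroup Ku) : Set Ku)
    rw [mem_normalizer_iff_map_conj_eq]
    ext x
    simp [Subgroup.mem_map, MulAut.conj_apply, hu'c]
  have h3 : 3 ∣ Nat.card N := by
    have h := N.orderOf_dvd_natCard hu'N
    rwa [Subgroup.orderOf_mk, orderOf_eq_prime C.trans_U.1 C.trans_U.2.1] at h
  have h39 : 39 ∣ Nat.card N := Nat.Coprime.mul_dvd_of_dvd_of_dvd (by norm_num : Nat.Coprime 3 13)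
    h3 (hPc ▸ card_dvd_of_le le_normalizer)
  have hidx : N.index ∣ 9 := by
    have h := (mul_dvd_mul_left N.index h39).trans (N.index_mul_card ▸ C.card_K_U_dvd)
    exact Nat.dvd_of_mul_dvd_mul_right (by norm_num : 0 < 39) (by norm_num; exact h)
  have hmod := card_sylow_modEq_one 13 Ku
  rw [P.card_eq_index_normalizer, ← hN] at hmod
  have hone : N.index = 1 := by
    have : N.index ≤ 9 := Nat.le_of_dvd (by norm_num) hidx
    rw [Nat.ModEq] at hmod
    omega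
  haveI : Subsingleton (Sylow 13 Ku) :=
    (Nat.card_eq_one_iff_unique.1 ((P.card_eq_index_normalizer).trans hone)).1
  obtain ⟨x, hx1⟩ : ∃ x : (P : Subgroup Ku), x ≠ 1 := by
    haveI : Nontrivial (P : Subgroup Ku) :=
      Finite.one_lt_card_iff_nontrivial.1 (by rw [hPc]; norm_num)
    exact exists_ne 1
  set A := (P : Subgroup Ku).map Ku.subtype with hA
  have hinv : ∀ a : M, a * a = 1 → C.φ a ≠ 1 → C.φ a * C.φ mU * (C.φ a)⁻¹ = C.φ mU ∨
      C.φ a * C.φ mU * (C.φ a)⁻¹ = (C.φ mU)⁻¹ → ∀ y ∈ A, C.φ a * y * (C.φ a)⁻¹ = y⁻¹ := by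
    intro a ha2 ha1 hau
    have ha : orderOf (C.φ a) = 2 :=
      orderOf_eq_prime (by rw [pow_two, ← map_mul, ha2, map_one]) ha1
    letI : Fintype G := Fintype.ofFinite G
    refine CfsgLib.InvChar.inverts_of_fixedPointFree ha ?_ ?_
    · rintro _ ⟨y, hy, rfl⟩
      have hmem : C.φ a * (y : G) * (C.φ a)⁻¹ ∈ Ku := conj_mem_K hau y.2
      refine ⟨⟨_, hmem⟩, ?_, rfl⟩
      rcases eq_or_ne y 1 with rfl | hy1
      · have : (⟨_, hmem⟩ : Ku) = 1 := Subtype.ext (by simp)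
        rw [this]; exact one_mem _
      have ho : orderOf y = 13 := by
        rcases (Nat.dvd_prime (by norm_num)).1 (hPc ▸ (P : Subgroup Ku).orderOf_dvd_natCard hy) with
          h | h
        · exact absurd (orderOf_eq_one_iff.1 h) hy1
        · exact h
      have ho' : Nat.card (zpowers (⟨_, hmem⟩ : Ku)) = 13 ^ 1 := by
        rw [Nat.card_zpowers, Subgroup.orderOf_mk, ← MulAut.conj_apply, MulEquiv.orderOf_eq,
          Subgroup.orderOf_coe, ho, pow_one]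
      obtain ⟨P', hP'⟩ := (IsPGroup.of_card ho').exists_le_sylow
      rw [Subsingleton.elim P' P] at hP'
      exact hP' (mem_zpowers _)
    · rintro _ ⟨y, hy, rfl⟩ hc
      by_contra hy1
      have hd : orderOf (y : G) ∣ 48 := by
        rw [← C.card_centralizer (by rw [← map_mul, ha2, map_one]) ha1]
        exact orderOf_dvd_natCard _ (mem_centralizer_singleton_iff.2 hc.eq)
      have h13' : orderOf (y : G) ∣ 13 := by
        rw [Subgroup.orderOf_coe, ← hPc]; exact (P : Subgroup Ku).orderOf_dvd_natCard hy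
      exact hy1 (orderOf_eq_one_iff.1 (Nat.eq_one_of_dvd_coprimes
        (by norm_num : Nat.Coprime 13 48) h13' hd))
  have hxA : ((x : Ku) : G) ∈ A := mem_map_of_mem _ x.2
  have hG1 := (C.inv_elems (Or.inl rfl)).2.1
  have hHG1 := (C.inv_elems (Or.inr rfl)).2.1
  have hH1 : C.φ mH ≠ 1 := fun e => rels.2.2.1 (C.inj (by rw [e, map_one]))
  have e1 := hinv _ rels.2.1 hG1 (Or.inr C.G_inv_U) _ hxA
  have e2 := hinv _ (by decide +kernel) hHG1 (Or.inr C.HG_inv_U) _ hxA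
  have e3 := hinv _ rels.1 hH1 (Or.inl C.H_inv_U) _ (inv_mem hxA)
  have : C.φ (mH * mG) * ((x : Ku) : G) * (C.φ (mH * mG))⁻¹ =
      C.φ mH * (C.φ mG * ((x : Ku) : G) * (C.φ mG)⁻¹) * (C.φ mH)⁻¹ := by rw [map_mul]; group
  rw [e1, e2, e3, inv_inv] at this
  refine hx1 (Subtype.ext (Subtype.ext ?_))
  exact eq_one_of_odd_sq (inv_eq_iff_mul_eq_one.1 this) ((C.mem_K_U.1 x.1.2).2)

theorem card_K_cases : Nat.card (K (C.φ mU)) = 9 ∨ Nat.card (K (C.φ mU)) = 27 := by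
  have h := C.card_K_U_dvd
  obtain ⟨j, hj⟩ := C.nine_dvd
  have h13 := C.not_thirteen_dvd
  rw [hj] at h h13 ⊢
  have hj39 : j ∣ 39 := Nat.dvd_of_mul_dvd_mul_left (by norm_num : 0 < 9) (by norm_num; exact h)
  have hj' : j ∣ 3 := (Nat.Coprime.dvd_of_dvd_mul_right
    ((Nat.Prime.coprime_iff_not_dvd (by norm_num : Nat.Prime 13)).2
      fun hd => h13 (Dvd.dvd.mul_left hd 9)).symm (by norm_num; exact hj39 : j ∣ 3 * 13))
  rcases (Nat.dvd_prime Nat.prime_three).1 hj' with rfl | rfl <;> norm_num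

/-- One of the two inverting involutions has fixed points; both, unless the order is nine. -/
theorem exists_fixed_or {a : M} (ha : a = mG ∨ a = mH * mG) :
    (∃ x ∈ K (C.φ mU), x ≠ 1 ∧ x * C.φ a = C.φ a * x) ∨
      (Nat.card (K (C.φ mU)) = 9 ∧
        ∃ x ∈ K (C.φ mU), x ≠ 1 ∧ x * C.φ (mH * a) = C.φ (mH * a) * x) := by
  set Ku := K (C.φ mU) with hKu
  by_contra hne
  push Not at hne
  obtain ⟨hfree, hne'⟩ := hne
  obtain ⟨ha2, ha1, hau, hHa, hHa'⟩ := C.inv_elems ha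
  obtain ⟨hb2, hb1, -⟩ := C.inv_elems hHa'
  have hh2 : C.φ mH * C.φ mH = 1 := by rw [← map_mul, rels.1, map_one]
  have hh1 : C.φ mH ≠ 1 := fun e => rels.2.2.1 (C.inj (by rw [e, map_one]))
  letI : Fintype G := Fintype.ofFinite G
  have hinv := CfsgLib.InvChar.inverts_of_fixedPointFree (A := Ku)
    (orderOf_eq_prime (by rw [pow_two, ha2]) ha1) (fun c hc => conj_mem_K (Or.inr hau) hc)
    (fun c hc h => by by_contra h1; exact hfree c hc h1 h.eq)
  have hcomm : ∀ x ∈ Ku, ∀ y ∈ Ku, x * y = y * x := by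
    intro x hx y hy
    have h := hinv _ (mul_mem hx hy)
    rw [show C.φ a * (x * y) * (C.φ a)⁻¹ = (C.φ a * x * (C.φ a)⁻¹) * (C.φ a * y * (C.φ a)⁻¹) by
      group, hinv x hx, hinv y hy, ← mul_inv_rev, inv_inj] at h
    exact h.symm
  set C0 := (Ku ⊓ centralizer ({C.φ mH} : Set G) : Subgroup G)
  set C1 := (Ku ⊓ centralizer ({C.φ (mH * a)} : Set G) : Subgroup G)
  have hσ : ∀ x ∈ Ku, C.φ mH * x * (C.φ mH)⁻¹ ∈ Ku := fun x hx =>
    conj_mem_K (Or.inl C.H_inv_U) hx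
  have hσσ : ∀ x : G, C.φ mH * (C.φ mH * x * (C.φ mH)⁻¹) * (C.φ mH)⁻¹ = x := fun x => by
    rw [show C.φ mH * (C.φ mH * x * (C.φ mH)⁻¹) * (C.φ mH)⁻¹ =
      C.φ mH * C.φ mH * x * (C.φ mH * C.φ mH)⁻¹ by group, hh2, one_mul, inv_one, mul_one]
  have hm0 : ∀ x ∈ Ku, x * (C.φ mH * x * (C.φ mH)⁻¹) ∈ C0 := by
    intro x hx
    refine ⟨mul_mem hx (hσ x hx), mem_centralizer_singleton_iff.2 (mul_inv_eq_iff_eq_mul.1 ?_).symm⟩
    calc C.φ mH * (x * (C.φ mH * x * (C.φ mH)⁻¹)) * (C.φ mH)⁻¹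
        = C.φ mH * x * (C.φ mH)⁻¹ * (C.φ mH * (C.φ mH * x * (C.φ mH)⁻¹) * (C.φ mH)⁻¹) := by group
      _ = x * (C.φ mH * x * (C.φ mH)⁻¹) := by rw [hσσ]; exact (hcomm _ hx _ (hσ x hx)).symm
  have hm1 : ∀ x ∈ Ku, x * (C.φ mH * x * (C.φ mH)⁻¹)⁻¹ ∈ C1 := by
    intro x hx
    refine ⟨Subgroup.mul_mem _ hx (Subgroup.inv_mem _ (hσ x hx)),
      mem_centralizer_singleton_iff.2 (mul_inv_eq_iff_eq_mul.1 ?_).symm⟩
    calc C.φ (mH * a) * (x * (C.φ mH * x * (C.φ mH)⁻¹)⁻¹) * (C.φ (mH * a))⁻¹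
        = C.φ mH * (C.φ a * (x * (C.φ mH * x * (C.φ mH)⁻¹)⁻¹) * (C.φ a)⁻¹) * (C.φ mH)⁻¹ := by
          rw [hHa]; group
      _ = C.φ mH * (C.φ mH * x * (C.φ mH)⁻¹ * x⁻¹) * (C.φ mH)⁻¹ := by
          rw [hinv _ (mul_mem hx (inv_mem (hσ x hx))), mul_inv_rev, inv_inv]
      _ = C.φ mH * (C.φ mH * x * (C.φ mH)⁻¹) * (C.φ mH)⁻¹ * (C.φ mH * x * (C.φ mH)⁻¹)⁻¹ := by group
      _ = x * (C.φ mH * x * (C.φ mH)⁻¹)⁻¹ := by rw [hσσ]
  let f : Ku → C0 × C1 := fun x => (⟨_, hm0 x x.2⟩, ⟨_, hm1 x x.2⟩)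
  have hf : Function.Injective f := by
    rintro ⟨x, hx⟩ ⟨y, hy⟩ e
    have e0 : x * (C.φ mH * x * (C.φ mH)⁻¹) = y * (C.φ mH * y * (C.φ mH)⁻¹) :=
      congrArg Subtype.val (congrArg Prod.fst e)
    have e1 : x * (C.φ mH * x * (C.φ mH)⁻¹)⁻¹ = y * (C.φ mH * y * (C.φ mH)⁻¹)⁻¹ :=
      congrArg Subtype.val (congrArg Prod.snd e)
    have hsq : x * x = y * y := by
      have sq : ∀ z ∈ Ku, z * (C.φ mH * z * (C.φ mH)⁻¹) * (z * (C.φ mH * z * (C.φ mH)⁻¹)⁻¹) =
          z * z := by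
        intro z hz
        rw [hcomm _ (mul_mem hz (hσ z hz)) _ (mul_mem hz (inv_mem (hσ z hz))), mul_assoc,
          hcomm z hz _ (hσ z hz), inv_mul_cancel_left]
      rw [← sq x hx, ← sq y hy, e0, e1]
    refine Subtype.ext (mul_inv_eq_one.1 (eq_one_of_odd_sq (x := x * y⁻¹) ?_
      (C.mem_K_U.1 (mul_mem hx (inv_mem hy))).2))
    have hc : Commute x y⁻¹ := (show Commute x y from hcomm x hx y hy).inv_right
    rw [mul_assoc, ← mul_assoc y⁻¹, ← hc.eq, mul_assoc, ← mul_assoc, hsq, ← mul_inv_rev,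
      mul_inv_cancel]
  have hle : Nat.card Ku ≤ Nat.card C0 * Nat.card C1 :=
    (Nat.card_le_card_of_injective f hf).trans (le_of_eq (Nat.card_prod _ _))
  have h0 : Nat.card C0 ≤ 3 := Nat.le_of_dvd (by norm_num) (C.card_fixed_le hh2 hh1)
  have h1 : Nat.card C1 ≤ 3 := Nat.le_of_dvd (by norm_num) (C.card_fixed_le hb2 hb1)
  rcases C.card_K_cases with h | h
  · have hC1 : C1 = ⊥ := eq_bot_iff.2 fun x hx => by
      rw [mem_bot]
      by_contra hx1
      exact hne' h x hx.1 hx1 (mem_centralizer_singleton_iff.1 hx.2)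
    rw [hC1, card_bot, mul_one, h] at hle
    omega
  · rw [h] at hle
    nlinarith

theorem card_K_ne_nine : Nat.card (K (C.φ mU)) ≠ 9 := by
  intro h9
  haveI : Fact (Nat.Prime 3) := ⟨Nat.prime_three⟩
  set u := C.φ mU with hu
  set Ku := K u with hKu
  obtain ⟨a, ha, d, hdK, hd1, hda⟩ : ∃ a : M, (a = mG ∨ a = mH * mG) ∧
      ∃ d ∈ Ku, d ≠ 1 ∧ d * C.φ a = C.φ a * d := by
    rcases C.exists_fixed_or (a := mG) (Or.inl rfl) with h | ⟨-, h⟩
    · exact ⟨mG, Or.inl rfl, h⟩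
    · exact ⟨mH * mG, Or.inr rfl, h⟩
  obtain ⟨ha2, ha1, hau, -⟩ := C.inv_elems ha
  have hcomm : ∀ x ∈ Ku, ∀ y ∈ Ku, x * y = y * x := fun x hx y hy =>
    congrArg Subtype.val (IsPGroup.commutative_of_card_eq_prime_sq (G := Ku) (p := 3)
      (by rw [h9]; norm_num) ⟨x, hx⟩ ⟨y, hy⟩)
  set C1 := (Ku ⊓ centralizer ({C.φ a} : Set G) : Subgroup G)
  have hdC : d ∈ C1 := ⟨hdK, mem_centralizer_singleton_iff.2 hda⟩
  have hC1 : Nat.card C1 = 3 := by
    rcases (Nat.dvd_prime Nat.prime_three).1 (C.card_fixed_le ha2 ha1) with h | h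
    · rw [Subgroup.card_eq_one] at h
      exact absurd (mem_bot.1 (h.le hdC)) hd1
    · exact h
  have hd3 : d ^ 3 = 1 := orderOf_dvd_iff_pow_eq_one.1 (hC1 ▸ C1.orderOf_dvd_natCard hdC)
  have hdT : Trans d := ⟨hd3, hd1, C.φ a, ha2, ha1, hda.symm⟩
  obtain ⟨(hu3 : u ^ 3 = 1), (hu1 : u ≠ 1), -⟩ := C.trans_U
  have hdh : C.φ mH * d * (C.φ mH)⁻¹ = d⁻¹ := by
    have hy : C.φ mH * d * (C.φ mH)⁻¹ ∈ C1 := by
      refine ⟨conj_mem_K (Or.inl C.H_inv_U) hdK, mem_centralizer_singleton_iff.2 ?_⟩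
      have := ((show Commute d (C.φ a) from hda).map (MulAut.conj (C.φ mH)).toMonoidHom).eq
      simpa only [MulEquiv.coe_toMonoidHom, MulAut.conj_apply, ← C.comm_mH a,
        mul_inv_cancel_right] using this
    obtain ⟨i, hi⟩ := mem_zpowers_iff.1 (mem_zpowers_of_prime_card hC1 (g := (⟨d, hdC⟩ : C1))
      (g' := ⟨_, hy⟩) fun e => hd1 (congrArg Subtype.val e))
    have hi' : d ^ i = C.φ mH * d * (C.φ mH)⁻¹ := by simpa using congrArg Subtype.val hi
    have ho : orderOf d = 3 := orderOf_eq_prime hd3 hd1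
    rw [← zpow_mod_orderOf d i, ho] at hi'
    have hne : C.φ mH * d * (C.φ mH)⁻¹ ≠ d := by
      intro e
      refine hd1 (C.one_of_odd_four (C.mem_K_U.1 hdK).2 (mul_inv_eq_iff_eq_mul.1 e).symm ?_)
      have hH : d * C.φ mH = C.φ mH * d := (mul_inv_eq_iff_eq_mul.1 e).symm
      rcases ha with rfl | rfl
      · exact hda
      · rw [show C.φ mG = C.φ mH * C.φ (mH * mG) by
          rw [← map_mul, ← mul_assoc, rels.1, one_mul]]
        exact ((show Commute d _ from hH).mul_right hda).eq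
    obtain h | h | h : i % (3 : ℕ) = 0 ∨ i % (3 : ℕ) = 1 ∨ i % (3 : ℕ) = 2 := by omega
    · rw [h, zpow_zero, eq_comm, mul_inv_eq_one] at hi'
      exact absurd (mul_left_cancel (hi'.trans (mul_one _).symm)) hd1
    · rw [h, zpow_one] at hi'; exact absurd hi'.symm hne
    · rw [h] at hi'; rw [← hi', eq_inv_iff_mul_eq_one, zpow_two, ← hd3, pow_succ, pow_two]
  -- the nine elements
  have huh : C.φ mH * u * (C.φ mH)⁻¹ = u := C.H_inv_U
  have hud : Commute u d := hcomm u C.u_mem d hdK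
  have hind : ∀ i j : ℕ, i < 3 → j < 3 → u ^ i * d ^ j = 1 → i = 0 ∧ j = 0 := by
    intro i j hi hj e
    have e' : u ^ i * (d ^ j)⁻¹ = 1 := by
      have := congrArg (fun x => C.φ mH * x * (C.φ mH)⁻¹) e
      simp only [mul_one, mul_inv_cancel] at this
      rw [show C.φ mH * (u ^ i * d ^ j) * (C.φ mH)⁻¹ =
        (C.φ mH * u ^ i * (C.φ mH)⁻¹) * (C.φ mH * d ^ j * (C.φ mH)⁻¹) by group, ← conj_pow,
        ← conj_pow, huh, hdh, inv_pow] at this
      exact this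
    have hdj : d ^ j = 1 := by
      refine eq_one_of_odd_sq ?_ (C.mem_K_U.1 (pow_mem hdK j)).2
      rw [mul_inv_eq_one] at e'
      rw [e'] at e
      exact e
    rw [hdj, mul_one] at e
    have key : ∀ (x : G), x ^ 3 = 1 → x ≠ 1 → ∀ k < 3, x ^ k = 1 → k = 0 := by
      intro x h3 h1 k hk e
      by_contra hk0
      have h := Nat.le_of_dvd (Nat.pos_of_ne_zero hk0) (orderOf_dvd_of_pow_eq_one e)
      rw [orderOf_eq_prime h3 h1] at h
      omega
    exact ⟨key u hu3 hu1 i hi e, key d hd3 hd1 j hj hdj⟩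
  let f : Fin 3 × Fin 3 → Ku := fun ij => ⟨u ^ ij.1.val * d ^ ij.2.val,
    mul_mem (pow_mem C.u_mem _) (pow_mem hdK _)⟩
  have hf : Function.Injective f := by
    rintro ⟨i, j⟩ ⟨i', j'⟩ e
    have e : u ^ i.val * d ^ j.val = u ^ i'.val * d ^ j'.val := congrArg Subtype.val e
    have hz : u ^ ((i.val + 2 * i'.val) % 3) * d ^ ((j.val + 2 * j'.val) % 3) = 1 := by
      rw [← pow_eq_pow_mod _ hu3, ← pow_eq_pow_mod _ hd3, pow_add, pow_add,
        mul_assoc (u ^ i.val), ← mul_assoc (u ^ (2 * i'.val)), (hud.pow_pow _ _).eq]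
      rw [mul_assoc (d ^ j.val), ← mul_assoc (u ^ i.val), e,
        show u ^ i'.val * d ^ j'.val * (u ^ (2 * i'.val) * d ^ (2 * j'.val)) =
          u ^ i'.val * (d ^ j'.val * u ^ (2 * i'.val)) * d ^ (2 * j'.val) by group,
        ← (hud.pow_pow (2 * i'.val) j'.val).eq, ← mul_assoc (u ^ i'.val), ← pow_add, mul_assoc,
        ← pow_add, show i'.val + 2 * i'.val = 3 * i'.val by omega,
        show j'.val + 2 * j'.val = 3 * j'.val by omega, pow_mul, pow_mul, hu3, hd3]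
      simp
    obtain ⟨h1, h2⟩ := hind _ _ (Nat.mod_lt _ (by norm_num)) (Nat.mod_lt _ (by norm_num)) hz
    exact Prod.ext (Fin.ext (show i.val = i'.val by have := i.isLt; have := i'.isLt; omega))
      (Fin.ext (show j.val = j'.val by have := j.isLt; have := j'.isLt; omega))
  have hsurj : Function.Surjective f :=
    (hf.bijective_of_nat_card_le (by rw [h9]; simp)).2
  -- the Sylow subgroup
  have hK3 : IsPGroup 3 Ku := IsPGroup.of_card (n := 2) (by rw [h9]; norm_num)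
  obtain ⟨P, hP⟩ := hK3.exists_le_sylow
  have hPc : Nat.card (P : Subgroup G) = 3 ^ 3 := by
    have hd : 3 ^ 3 ∣ Nat.card G := by rw [C.card]; norm_num
    obtain ⟨n, hn⟩ := IsPGroup.iff_card.1 P.isPGroup'
    have hdvd := (P : Subgroup G).card_subgroup_dvd_card
    rw [hn, C.card] at hdvd
    have hlow := P.pow_dvd_card_of_pow_dvd_card hd
    rw [hn] at hlow
    have h3n : 3 ≤ n := (Nat.pow_dvd_pow_iff_le_right (by norm_num)).1 hlow
    rcases Nat.lt_or_ge n 4 with h | h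
    · rw [hn, show n = 3 by omega]
    · exact absurd ((pow_dvd_pow 3 h).trans hdvd) (by norm_num)
  have hodd : ∀ x ∈ (P : Subgroup G), Odd (orderOf x) := fun x hx =>
    Odd.of_dvd_nat (by decide) (hPc ▸ (P : Subgroup G).orderOf_dvd_natCard hx)
  obtain ⟨p, hpP, hpK⟩ : ∃ p ∈ (P : Subgroup G), p ∉ Ku := by
    by_contra h
    push Not at h
    have := card_le_of_le h
    rw [hPc, h9] at this
    norm_num at this
  have hpn : ∀ x ∈ Ku, p * x * p⁻¹ ∈ Ku := by
    have hidx : (Ku.subgroupOf (P : Subgroup G)).index = 3 := by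
      have := (Ku.subgroupOf (P : Subgroup G)).index_mul_card
      rw [Nat.card_congr (subgroupOfEquivOfLe hP).toEquiv, h9, hPc] at this
      omega
    have hN : (Ku.subgroupOf (P : Subgroup G)).Normal := by
      refine normal_of_index_eq_minFac_card ?_
      rw [hidx, hPc]; norm_num
    exact fun x hx => hN.conj_mem ⟨x, hP hx⟩ hx ⟨p, hpP⟩
  -- a central element is not a transvection
  have : Nontrivial (P : Subgroup G) :=
    Finite.one_lt_card_iff_nontrivial.1 (by rw [hPc]; norm_num)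
  have hcn := P.isPGroup'.center_nontrivial
  obtain ⟨⟨⟨z, hzP⟩, hzc⟩, hz1⟩ := exists_ne (1 : Subgroup.center (P : Subgroup G))
  have hz1 : z ≠ 1 := fun e => hz1 (Subtype.ext (Subtype.ext e))
  have hzcomm : ∀ x ∈ (P : Subgroup G), x * z = z * x := fun x hx =>
    congrArg Subtype.val (mem_center_iff.1 hzc ⟨x, hx⟩)
  have hzK : z ∈ Ku := C.mem_K_U.2 ⟨(hzcomm u (hP C.u_mem)).symm, hodd z hzP⟩
  have hzT : ¬ Trans z := by
    intro hT
    have hle : (P : Subgroup G) ≤ K z := fun x hx => (C.mem_K hT).2 ⟨hzcomm x hx, hodd x hx⟩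
    have := card_le_of_le hle
    rw [hPc, C.card_K hT, h9] at this
    norm_num at this
  have hlist : ∀ y ∈ Ku, Trans y → y = u ∨ y = u⁻¹ ∨ y = d ∨ y = d⁻¹ := by
    intro y hy hT
    have hi2 : ∀ {x : G}, x ^ 3 = 1 → x ^ 2 = x⁻¹ := fun {x} h =>
      eq_inv_of_mul_eq_one_left (by rw [← pow_succ, h])
    have hform : ∀ w ∈ Ku, w = 1 ∨ w = u ∨ w = u⁻¹ ∨ w = d ∨ w = d⁻¹ ∨
        (∃ x : G, (x = u * d ∨ x = u * d⁻¹) ∧ (w = x ∨ w = x⁻¹)) := by
      intro w hw
      obtain ⟨⟨i, j⟩, e⟩ := hsurj ⟨w, hw⟩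
      have e : u ^ i.val * d ^ j.val = w := congrArg Subtype.val e
      subst e
      have hc1 : u⁻¹ * d = (u * d⁻¹)⁻¹ := by
        rw [mul_inv_rev, inv_inv]; exact hud.inv_left.eq
      have hc2 : u⁻¹ * d⁻¹ = (u * d)⁻¹ := by
        rw [mul_inv_rev]; exact (hud.inv_left.inv_right).eq
      obtain ⟨i, hi⟩ := i
      obtain ⟨j, hj⟩ := j
      interval_cases i <;> interval_cases j <;> simp only [pow_zero, pow_one, one_mul, mul_one, hi2 hu3,
        hi2 hd3]
      · exact Or.inl trivial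
      · tauto
      · tauto
      · tauto
      · exact Or.inr (Or.inr (Or.inr (Or.inr (Or.inr ⟨u * d, Or.inl rfl, Or.inl rfl⟩))))
      · exact Or.inr (Or.inr (Or.inr (Or.inr (Or.inr ⟨u * d⁻¹, Or.inr rfl, Or.inl rfl⟩))))
      · tauto
      · exact Or.inr (Or.inr (Or.inr (Or.inr (Or.inr ⟨u * d⁻¹, Or.inr rfl, Or.inr hc1⟩))))
      · exact Or.inr (Or.inr (Or.inr (Or.inr (Or.inr ⟨u * d, Or.inl rfl, Or.inr hc2⟩))))
    have hswap : C.φ mH * (u * d) * (C.φ mH)⁻¹ = u * d⁻¹ := by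
      rw [show C.φ mH * (u * d) * (C.φ mH)⁻¹ =
        C.φ mH * u * (C.φ mH)⁻¹ * (C.φ mH * d * (C.φ mH)⁻¹) by group, huh, hdh]
    have hswap' : C.φ mH * (u * d⁻¹) * (C.φ mH)⁻¹ = u * d := by
      rw [show C.φ mH * (u * d⁻¹) * (C.φ mH)⁻¹ =
        C.φ mH * u * (C.φ mH)⁻¹ * (C.φ mH * d * (C.φ mH)⁻¹)⁻¹ by group, huh, hdh, inv_inv]
    have hto : ∀ {w x : G}, (x = u * d ∨ x = u * d⁻¹) → (w = x ∨ w = x⁻¹) → Trans w →
        Trans (u * d) ∧ Trans (u * d⁻¹) := by
      intro w x hx hw hT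
      have hTx : Trans x := by
        rcases hw with rfl | rfl
        · exact hT
        · simpa using trans_inv hT
      rcases hx with rfl | rfl
      · exact ⟨hTx, hswap ▸ trans_conj hTx _⟩
      · exact ⟨hswap' ▸ trans_conj hTx _, hTx⟩
    rcases hform y hy with rfl | h | h | h | h | ⟨x, hx, hyx⟩
    · exact absurd rfl hT.2.1
    · tauto
    · tauto
    · tauto
    · tauto
    · exfalso
      obtain ⟨hA, hB⟩ := hto hx hyx hT
      rcases hform z hzK with h | h | h | h | h | ⟨x', hx', hzx⟩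
      · exact hz1 h
      · exact hzT (h ▸ C.trans_U)
      · exact hzT (h ▸ trans_inv C.trans_U)
      · exact hzT (h ▸ hdT)
      · exact hzT (h ▸ trans_inv hdT)
      · rcases hzx with rfl | rfl <;> rcases hx' with rfl | rfl
        exacts [hzT hA, hzT hB, hzT (trans_inv hA), hzT (trans_inv hB)]
  obtain ⟨j, hj⟩ := hodd p hpP
  have hfix : ∀ y ∈ Ku, Trans y → (p * y * p⁻¹ = y ∨ p * y * p⁻¹ = y⁻¹) → Commute p y := by
    intro y _ _ h
    have h2 : Commute (p * p) y := by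
      have : p * p * y * (p * p)⁻¹ = y := by
        rw [show p * p * y * (p * p)⁻¹ = p * (p * y * p⁻¹) * p⁻¹ by group]
        rcases h with h | h
        · rw [h, h]
        · rw [h, show p * y⁻¹ * p⁻¹ = (p * y * p⁻¹)⁻¹ by group, h, inv_inv]
      exact mul_inv_eq_iff_eq_mul.1 this
    have : p = (p * p) ^ (j + 1) := by
      rw [← pow_two, ← pow_mul, show 2 * (j + 1) = orderOf p + 1 by omega, pow_succ,
        pow_orderOf_eq_one, one_mul]
    rw [this]
    exact h2.pow_left _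
  have hnfix : ¬ Commute p u := fun h => hpK (C.mem_K_U.2 ⟨h.eq, hodd p hpP⟩)
  have hpu := hlist _ (hpn u C.u_mem) (trans_conj C.trans_U p)
  have hne : ∀ {x : G}, x ∈ Ku → (p * x * p⁻¹ = x ∨ p * x * p⁻¹ = x⁻¹) → (x = u ∨ x = u⁻¹) →
      False := by
    intro x hx h hxu
    rcases hxu with rfl | rfl
    · exact hnfix (hfix _ hx C.trans_U h)
    · exact hnfix (by simpa using (hfix _ hx (trans_inv C.trans_U) h).inv_right)
  have hud' : u ≠ d ∧ u ≠ d⁻¹ := by
    constructor <;> intro e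
    · exact absurd (hind 1 2 (by norm_num) (by norm_num) (by rw [pow_one, e, ← pow_succ', hd3]))
        (by norm_num)
    · exact absurd (hind 1 1 (by norm_num) (by norm_num) (by rw [pow_one, pow_one, e]; group))
        (by norm_num)
  -- `p` moves `u` to the line of `d`, and `d` to that of `u`
  have hpd := hlist _ (hpn d hdK) (trans_conj hdT p)
  have hpu' : p * u * p⁻¹ = d ∨ p * u * p⁻¹ = d⁻¹ := by
    rcases hpu with h | h | h | h
    · exact (hne C.u_mem (Or.inl h) (Or.inl rfl)).elim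
    · exact (hne C.u_mem (Or.inr h) (Or.inl rfl)).elim
    · exact Or.inl h
    · exact Or.inr h
  have hpd' : p * d * p⁻¹ = u ∨ p * d * p⁻¹ = u⁻¹ := by
    rcases hpd with h | h | h | h
    · exact Or.inl h
    · exact Or.inr h
    all_goals exfalso; rcases hpu' with h' | h'
    · exact hud'.1 (mul_left_cancel (mul_right_cancel (h'.trans h.symm)))
    · refine hud'.2 (mul_left_cancel (mul_right_cancel (b := p⁻¹) (h'.trans ?_)))
      rw [show p * d⁻¹ * p⁻¹ = (p * d * p⁻¹)⁻¹ by group, h]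
    · refine hud'.2 (mul_left_cancel (mul_right_cancel (b := p⁻¹) (h'.trans ?_)))
      rw [show p * d⁻¹ * p⁻¹ = (p * d * p⁻¹)⁻¹ by group, h, inv_inv]
    · exact hud'.1 (mul_left_cancel (mul_right_cancel (h'.trans h.symm)))
  have h2 : p * p * u * (p * p)⁻¹ = u ∨ p * p * u * (p * p)⁻¹ = u⁻¹ := by
    rw [show p * p * u * (p * p)⁻¹ = p * (p * u * p⁻¹) * p⁻¹ by group]
    rcases hpu' with h | h <;> rcases hpd' with h' | h' <;>
      simp [h, show p * d⁻¹ * p⁻¹ = (p * d * p⁻¹)⁻¹ by group, h']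
  refine hnfix ?_
  have h4 : Commute (p * p * (p * p)) u := by
    refine mul_inv_eq_iff_eq_mul.1 ?_
    rw [show p * p * (p * p) * u * (p * p * (p * p))⁻¹ =
      p * p * (p * p * u * (p * p)⁻¹) * (p * p)⁻¹ by group]
    rcases h2 with h | h
    · rw [h, h]
    · rw [h, ← conj_inv, h, inv_inv]
  have : p = (p * p * (p * p)) ^ ((j + 1) * (j + 1)) := by
    rw [show p * p * (p * p) = p ^ 4 by simp [pow_succ, mul_assoc], ← pow_mul,
      show 4 * ((j + 1) * (j + 1)) = orderOf p * (orderOf p + 2) + 1 by rw [hj]; ring, pow_succ,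
      pow_mul, pow_orderOf_eq_one, one_pow, one_mul]
  rw [this]
  exact h4.pow_left _

theorem card_K_U : Nat.card (K (C.φ mU)) = 27 :=
  C.card_K_cases.resolve_left C.card_K_ne_nine

theorem exists_fixed {a : M} (ha : a = mG ∨ a = mH * mG) :
    ∃ x ∈ K (C.φ mU), x ≠ 1 ∧ x * C.φ a = C.φ a * x :=
  (C.exists_fixed_or ha).resolve_right fun h => C.card_K_ne_nine h.1

end

end CfsgLib.GL23.PSL33.Ctx
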