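import Cfsg.Agent.Lib.GL23.PSL33.Order

/-!
The relations between the transvections.
-/

set_option autoImplicit false
set_option linter.style.haveILetI false

namespace CfsgLib.GL23.PSL33.Ctx

open Subgroup

variable {G : Type*} [Group G] [Finite G] (C : Ctx G)

theorem commute_fixed {a b : M} (ha : a = mG ∨ a = mH * mG) (hb : b = mG ∨ b = mH * mG) {q : G}
    (h1 : q * C.φ mH * q⁻¹ = C.φ a) (h2 : q⁻¹ * C.φ mH * q = C.φ b) :
    Commute (C.φ mU) (q * C.φ mU * q⁻¹) ∨ Commute (C.φ mU) (q * C.φ mL * q⁻¹) := by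
  obtain ⟨x, hxK, hx1, hxa⟩ := C.exists_fixed ha
  obtain ⟨hxu, hxo⟩ := C.mem_K_U.1 hxK
  obtain ⟨ha2, ha1, -⟩ := C.inv_elems ha
  set C1 := (K (C.φ mU) ⊓ centralizer ({C.φ a} : Set G) : Subgroup G)
  have hxC : x ∈ C1 := ⟨hxK, mem_centralizer_singleton_iff.2 hxa⟩
  have hC1 : Nat.card C1 = 3 := by
    rcases (Nat.dvd_prime Nat.prime_three).1 (C.card_fixed_le ha2 ha1) with h | h
    · rw [Subgroup.card_eq_one] at h
      exact absurd (mem_bot.1 (h.le hxC)) hx1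
    · exact h
  have hx3 : x ^ 3 = 1 := orderOf_dvd_iff_pow_eq_one.1 (hC1 ▸ C1.orderOf_dvd_natCard hxC)
  have hxh : C.φ mH * x * (C.φ mH)⁻¹ = x⁻¹ := by
    have hy : C.φ mH * x * (C.φ mH)⁻¹ ∈ C1 := by
      refine ⟨conj_mem_K (Or.inl C.H_inv_U) hxK, mem_centralizer_singleton_iff.2 ?_⟩
      have := ((show Commute x (C.φ a) from hxa).map (MulAut.conj (C.φ mH)).toMonoidHom).eq
      simpa only [MulEquiv.coe_toMonoidHom, MulAut.conj_apply, ← C.comm_mH a,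
        mul_inv_cancel_right] using this
    haveI : Fact (Nat.Prime 3) := ⟨Nat.prime_three⟩
    obtain ⟨i, hi⟩ := mem_zpowers_iff.1 (mem_zpowers_of_prime_card hC1 (g := (⟨x, hxC⟩ : C1))
      (g' := ⟨_, hy⟩) fun e => hx1 (congrArg Subtype.val e))
    have hi' : x ^ i = C.φ mH * x * (C.φ mH)⁻¹ := by simpa using congrArg Subtype.val hi
    rw [← zpow_mod_orderOf x i, orderOf_eq_prime hx3 hx1] at hi'
    obtain h | h | h : i % (3 : ℕ) = 0 ∨ i % (3 : ℕ) = 1 ∨ i % (3 : ℕ) = 2 := by omega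
    · rw [h, zpow_zero, eq_comm, mul_inv_eq_one] at hi'
      exact absurd (mul_left_cancel (hi'.trans (mul_one _).symm)) hx1
    · rw [h, zpow_one] at hi'
      have hH : x * C.φ mH = C.φ mH * x := (mul_inv_eq_iff_eq_mul.1 hi'.symm).symm
      refine absurd (C.one_of_odd_four hxo hH ?_) hx1
      rcases ha with rfl | rfl
      · exact hxa
      · rw [show C.φ mG = C.φ mH * C.φ (mH * mG) by
          rw [← map_mul, ← mul_assoc, rels.1, one_mul]]
        exact ((show Commute x (C.φ mH) from hH).mul_right hxa).eq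
    · rw [h] at hi'; rw [← hi', eq_inv_iff_mul_eq_one, zpow_two, ← hx3, pow_succ, pow_two]
  obtain ⟨y, hy⟩ := C.range (q⁻¹ * x * q) (by rw [comm_conj_iff, h1]; exact hxa)
  have hy3 : y ^ 3 = 1 := C.inj (by
    rw [map_pow, hy, map_one, show q⁻¹ * x * q = q⁻¹ * x * q⁻¹⁻¹ by group, conj_pow, hx3]; group)
  have hy1 : y ≠ 1 := by
    rintro rfl
    rw [map_one] at hy
    exact hx1 (calc x = q * (q⁻¹ * x * q) * q⁻¹ := by group
      _ = 1 := by rw [← hy]; group)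
  have hinvb : b * y * b⁻¹ = y⁻¹ := C.inj (by
    rw [map_mul, map_mul, map_inv, map_inv, hy, ← h2]
    calc q⁻¹ * C.φ mH * q * (q⁻¹ * x * q) * (q⁻¹ * C.φ mH * q)⁻¹
        = q⁻¹ * (C.φ mH * x * (C.φ mH)⁻¹) * q := by group
      _ = (q⁻¹ * x * q)⁻¹ := by rw [hxh]; group)
  have hG : mG * y * mG⁻¹ = y⁻¹ := by
    rcases hb with rfl | rfl
    · exact hinvb
    · rwa [show mH * mG * y * (mH * mG)⁻¹ = mH * (mG * y * mG⁻¹) * mH⁻¹ by group, ← mH_central,
        mul_inv_cancel_right] at hinvb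
  have hcx : Commute (C.φ mU) (q * C.φ y * q⁻¹) := by
    rw [hy, show q * (q⁻¹ * x * q) * q⁻¹ = x by group]; exact hxu.symm
  rcases inverted_mG hy3 hy1 hG with rfl | rfl | rfl | rfl
  · exact Or.inl hcx
  · rw [map_inv, ← conj_inv, Commute.inv_right_iff] at hcx
    exact Or.inl hcx
  · exact Or.inr hcx
  · rw [map_inv, ← conj_inv, Commute.inv_right_iff] at hcx
    exact Or.inr hcx

section

variable {c : G} (cH : c * C.φ mH * c⁻¹ = C.φ mG) (cG : c * C.φ mG * c⁻¹ = C.φ (mH * mG))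
  (cHG : c * C.φ (mH * mG) * c⁻¹ = C.φ mH) (c3 : c * c * c = 1)

include cH c3 in
theorem c_not_normalize {a : M} (ha3 : a ^ 3 = 1) (ha1 : a ≠ 1) (hn : a * mG ≠ mG * a) :
    K (c * C.φ a * c⁻¹) ≠ K (C.φ a) := by
  haveI : Fact (Nat.Prime 3) := ⟨Nat.prime_three⟩
  intro hK
  have hT := C.trans_phi ha3 ha1
  have hcard : Nat.card (K (C.φ a)) = 3 ^ 3 := by rw [C.card_K hT, C.card_K_U]; norm_num
  have hcn : c ∈ normalizer (K (C.φ a) : Set G) := by
    rw [mem_normalizer_iff_map_conj_eq]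
    exact (K_conj c _).symm.trans hK
  have hc1 : c ≠ 1 := by
    rintro rfl
    simp only [one_mul, inv_one, mul_one] at cH
    exact rels.2.2.2.2.1 (C.inj cH.symm)
  have hc3 : orderOf c = 3 := orderOf_eq_prime (by rw [pow_succ, pow_two, c3]) hc1
  have hz : IsPGroup 3 (zpowers c) :=
    IsPGroup.of_card (n := 1) (by rw [Nat.card_zpowers, hc3, pow_one])
  obtain ⟨n, hn'⟩ := IsPGroup.iff_card.1 (hz.to_sup_of_normal_right'
    (IsPGroup.of_card hcard) (zpowers_le.2 hcn))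
  have hn3 : n ≤ 3 := by
    by_contra hlt
    have h := (zpowers c ⊔ K (C.φ a)).card_subgroup_dvd_card
    rw [hn', C.card] at h
    exact absurd ((pow_dvd_pow 3 (show 4 ≤ n by omega)).trans h) (by norm_num)
  have heq : K (C.φ a) = zpowers c ⊔ K (C.φ a) := eq_of_le_of_card_ge le_sup_right (by
    rw [hn', hcard]; exact Nat.pow_le_pow_right (by norm_num) hn3)
  have hc : c ∈ K (C.φ a) := heq ▸ mem_sup_left (mem_zpowers c)
  have h1 := ((C.mem_K hT).1 hc).1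
  have h2 : c * C.φ a * c⁻¹ = C.φ a := by rw [h1, mul_inv_cancel_right]
  have h3 := ((show Commute (C.φ a) (C.φ mH) from C.comm_mH a).map (MulAut.conj c).toMonoidHom).eq
  simp only [MulEquiv.coe_toMonoidHom, MulAut.conj_apply, h2, cH] at h3
  exact hn (C.comm_of_eq h3)

theorem U_not_comm : (mU : M) * mG ≠ mG * mU := by decide +kernel

theorem L_not_comm : (mL : M) * mG ≠ mG * mL := by decide +kernel

include C c3 in
omit [Finite G] in
theorem c_inv_eq : c⁻¹ = c * c := inv_eq_of_mul_eq_one_left c3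

include cH cG cHG c3 in
theorem noncomm : ¬ ∀ x ∈ K (C.φ mU), ∀ y ∈ K (C.φ mU), x * y = y * x := by
  intro hab
  have heq : ∀ y, Trans y → Commute (C.φ mU) y → K y = K (C.φ mU) := by
    intro y hy hc
    have hymem : y ∈ K (C.φ mU) := C.mem_K_U.2 ⟨hc.symm.eq, odd_of_pow_three hy.1⟩
    refine (eq_of_le_of_card_ge (fun x hx => (C.mem_K hy).2
      ⟨hab x hx y hymem, (C.mem_K_U.1 hx).2⟩) (C.card_K hy).le).symm
  have hci := C.c_inv_eq c3
  have hU := C.c_not_normalize cH c3 (a := mU) rels.2.2.2.2.2.2.1 rels.2.2.2.2.2.1 U_not_comm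
  have hL := C.c_not_normalize cH c3 (a := mL) (by decide +kernel) (by decide +kernel) L_not_comm
  have h1 := C.commute_fixed (Or.inl rfl) (Or.inr rfl) cH
    (by rw [← cHG]; group)
  have h2 := C.commute_fixed (a := mH * mG) (b := mG) (q := c * c) (Or.inr rfl) (Or.inl rfl)
    (by rw [show c * c * C.φ mH * (c * c)⁻¹ = c * (c * C.φ mH * c⁻¹) * c⁻¹ by group, cH, cG])
    (by
      rw [show (c * c)⁻¹ * C.φ mH * (c * c) = c⁻¹⁻¹ * C.φ mH * c⁻¹⁻¹⁻¹ by
        rw [inv_inv, ← hci, inv_inv], inv_inv, cH])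
  have hcc : ∀ y : G, K (c * c * y * (c * c)⁻¹) = (K (c * y * c⁻¹)).map
      (MulAut.conj c).toMonoidHom := fun y => by
    rw [← K_conj, show c * (c * y * c⁻¹) * c⁻¹ = c * c * y * (c * c)⁻¹ by group]
  rcases h1 with h1 | h1
  · exact hU (heq _ (trans_conj C.trans_U c) h1)
  · rcases h2 with h2 | h2
    · have e := heq _ (trans_conj C.trans_U (c * c)) h2
      refine hU ?_
      have e' : K (c * (c * c * C.φ mU * (c * c)⁻¹) * c⁻¹) = K (c * C.φ mU * c⁻¹) := by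
        rw [K_conj, e, ← K_conj]
      rw [← e', show c * (c * c * C.φ mU * (c * c)⁻¹) * c⁻¹ =
        c * c * c * C.φ mU * (c * c * c)⁻¹ by group, c3, inv_one, mul_one, one_mul]
    · have e1 := heq _ (trans_conj C.trans_L c) h1
      have e2 := heq _ (trans_conj C.trans_L (c * c)) h2
      have e := e2.trans e1.symm
      refine hL ?_
      rw [hcc, K_conj c (C.φ mL)] at e
      exact (K_conj c (C.φ mL)).trans
        (Subgroup.map_injective (MulAut.conj c).injective e)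

/-- Commutators in the odd part of the centralizer lie in the subgroup generated by the element. -/
theorem comm_mod_U (hnc : ¬ ∀ x ∈ K (C.φ mU), ∀ y ∈ K (C.φ mU), x * y = y * x) {x y : G}
    (hx : x ∈ K (C.φ mU)) (hy : y ∈ K (C.φ mU)) :
    ∃ i : ℕ, i < 3 ∧ x * y * x⁻¹ = (C.φ mU) ^ i * y := by
  haveI : Fact (Nat.Prime 3) := ⟨Nat.prime_three⟩
  set Ku := K (C.φ mU)
  have hK : Nat.card Ku = 3 ^ 3 := by rw [C.card_K_U]; norm_num
  have hP : IsPGroup 3 Ku := IsPGroup.of_card hK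
  set Z := center Ku with hZ
  let u' : Ku := ⟨C.φ mU, C.u_mem⟩
  have hu' : u' ∈ Z := mem_center_iff.2 fun g => Subtype.ext (C.mem_K_U.1 g.2).1
  have hu1 : u' ≠ 1 := fun e => C.trans_U.2.1 (congrArg Subtype.val e)
  have hprod := Z.index_mul_card
  rw [hK] at hprod
  obtain ⟨n, hn⟩ := IsPGroup.iff_card.1 (hP.to_subgroup Z)
  have hn0 : n ≠ 0 := by
    rintro rfl
    rw [pow_zero, Subgroup.card_eq_one] at hn
    exact hu1 (mem_bot.1 (hn ▸ hu'))
  have hn1 : n = 1 := by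
    rcases Nat.lt_or_ge n 2 with h | h
    · omega
    · exfalso
      apply hnc
      intro a ha b hb
      have hidx : Z.index ∣ 3 := by
        rw [hn] at hprod
        refine Nat.dvd_of_mul_dvd_mul_right (show 0 < 3 ^ 2 by norm_num) ?_
        refine (mul_dvd_mul_left _ (pow_dvd_pow 3 h)).trans ?_
        rw [hprod]; norm_num
      haveI : IsCyclic (Ku ⧸ Z) := by
        rcases (Nat.dvd_prime Nat.prime_three).1 hidx with h1 | h1
        · haveI : Subsingleton (Ku ⧸ Z) := (Nat.card_eq_one_iff_unique.1 h1).1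
          infer_instance
        · exact isCyclic_of_prime_card (p := 3) h1
      exact congrArg Subtype.val (commutative_of_cyclic_center_quotient (QuotientGroup.mk' Z)
        (by rw [QuotientGroup.ker_mk']) ⟨a, ha⟩ ⟨b, hb⟩)
  subst hn1
  have hq : Nat.card (Ku ⧸ Z) = 3 ^ 2 := by
    have : Z.index * 3 = 3 ^ 3 := by rw [← hprod, hn, pow_one]
    show Z.index = 3 ^ 2
    omega
  let a : Ku := ⟨x, hx⟩
  let b : Ku := ⟨y, hy⟩
  have hmem : a * b * a⁻¹ * b⁻¹ ∈ Z := by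
    rw [← QuotientGroup.eq_one_iff]
    simp only [QuotientGroup.mk_mul, QuotientGroup.mk_inv]
    rw [IsPGroup.commutative_of_card_eq_prime_sq hq (a : Ku ⧸ Z) (b : Ku ⧸ Z),
      mul_inv_cancel_right, mul_inv_cancel]
  obtain ⟨j, hj⟩ := mem_zpowers_iff.1 (mem_zpowers_of_prime_card (by rw [hn, pow_one])
    (g := (⟨u', hu'⟩ : Z)) (g' := ⟨_, hmem⟩) fun e => hu1 (congrArg Subtype.val e))
  have hj' : (C.φ mU) ^ j = x * y * x⁻¹ * y⁻¹ := by
    simpa [a, b, u'] using congrArg (fun z : Z => ((z : Ku) : G)) hj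
  refine ⟨(j % (3 : ℕ)).toNat, by omega, ?_⟩
  have hjm := zpow_mod_orderOf (C.φ mU) j
  rw [orderOf_eq_prime C.trans_U.1 C.trans_U.2.1] at hjm
  rw [← zpow_natCast, Int.toNat_of_nonneg (Int.emod_nonneg _ (by norm_num)), hjm, hj']
  group

theorem comm_mod (hnc : ¬ ∀ x ∈ K (C.φ mU), ∀ y ∈ K (C.φ mU), x * y = y * x) {z x y : G}
    (hz : Trans z) (hx : x ∈ K z) (hy : y ∈ K z) :
    ∃ i : ℕ, i < 3 ∧ x * y * x⁻¹ = z ^ i * y := by
  obtain ⟨q, rfl⟩ := C.exists_conj_U hz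
  rw [K_conj] at hx hy
  obtain ⟨x', hx', rfl⟩ := hx
  obtain ⟨y', hy', rfl⟩ := hy
  obtain ⟨i, hi, e⟩ := C.comm_mod_U hnc hx' hy'
  refine ⟨i, hi, ?_⟩
  simp only [MulEquiv.coe_toMonoidHom, MulAut.conj_apply]
  rw [conj_pow, show q * x' * q⁻¹ * (q * y' * q⁻¹) * (q * x' * q⁻¹)⁻¹ =
    q * (x' * y' * x'⁻¹) * q⁻¹ by group, e]
  group

include cH cG cHG c3 in
theorem not_commute_cU : ¬ Commute (C.φ mU) (c * C.φ mU * c⁻¹) := by
  intro h
  apply C.noncomm cH cG cHG c3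
  set u := C.φ mU with hu
  set a := c * u * c⁻¹ with ha
  set b := c * c * u * (c * c)⁻¹ with hb
  have hu3 : u ^ 3 = 1 := C.trans_U.1
  have hu1 : u ≠ 1 := C.trans_U.2.1
  have ha3 : a ^ 3 = 1 := by rw [ha, conj_pow, hu3]; group
  have hb3 : b ^ 3 = 1 := by rw [hb, conj_pow, hu3]; group
  have hab : Commute a b := by
    have := h.map (MulAut.conj c).toMonoidHom
    simp only [MulEquiv.coe_toMonoidHom, MulAut.conj_apply, ha] at this ⊢
    rw [hb, show c * c * u * (c * c)⁻¹ = c * (c * u * c⁻¹) * c⁻¹ by group]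
    exact this
  have hub : Commute u b := by
    have := hab.map (MulAut.conj c).toMonoidHom
    simp only [MulEquiv.coe_toMonoidHom, MulAut.conj_apply] at this
    have e1 : c * a * c⁻¹ = b := by rw [ha, hb]; group
    have e2 : c * b * c⁻¹ = u := by
      rw [hb, show c * (c * c * u * (c * c)⁻¹) * c⁻¹ = c * c * c * u * (c * c * c)⁻¹ by group, c3]
      group
    rw [e1, e2] at this
    exact this.symm
  -- the action of the two involutions
  have trans_act : ∀ p r : G, r * u * r⁻¹ = u ∨ r * u * r⁻¹ = u⁻¹ →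
      p * r * p⁻¹ * (p * u * p⁻¹) * (p * r * p⁻¹)⁻¹ = p * (r * u * r⁻¹) * p⁻¹ := fun p r _ => by
    group
  have hHa : C.φ mH * a * (C.φ mH)⁻¹ = a⁻¹ := by
    rw [← cHG, ha, trans_act c _ (Or.inr C.HG_inv_U), C.HG_inv_U, conj_inv]
  have hGa : C.φ mG * a * (C.φ mG)⁻¹ = a := by
    rw [← cH, ha, trans_act c _ (Or.inl C.H_inv_U), C.H_inv_U]
  have hHb : C.φ mH * b * (C.φ mH)⁻¹ = b⁻¹ := by
    have e : c * c * C.φ mG * (c * c)⁻¹ = C.φ mH := by
      rw [show c * c * C.φ mG * (c * c)⁻¹ = c * (c * C.φ mG * c⁻¹) * c⁻¹ by group, cG, cHG]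
    rw [← e, hb, trans_act (c * c) _ (Or.inr C.G_inv_U), C.G_inv_U, conj_inv]
  have hGb : C.φ mG * b * (C.φ mG)⁻¹ = b⁻¹ := by
    have e : c * c * C.φ (mH * mG) * (c * c)⁻¹ = C.φ mG := by
      rw [show c * c * C.φ (mH * mG) * (c * c)⁻¹ = c * (c * C.φ (mH * mG) * c⁻¹) * c⁻¹ by group,
        cHG, cH]
    rw [← e, hb, trans_act (c * c) _ (Or.inr C.HG_inv_U), C.HG_inv_U, conj_inv]
  have cancel : ∀ x : G, x ^ 3 = 1 → ∀ k k' : ℕ, x ^ k * x ^ k = x ^ k' * x ^ k' →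
      x ^ k = x ^ k' := by
    intro x hx k k' e
    calc x ^ k = (x ^ k * x ^ k) * (x ^ k * x ^ k) * ((x ^ 3) ^ k)⁻¹ := by group
      _ = (x ^ k' * x ^ k') * (x ^ k' * x ^ k') * ((x ^ 3) ^ k')⁻¹ := by
          rw [e, hx, one_pow, one_pow]
      _ = x ^ k' := by group
  have hmem : ∀ i j l : ℕ, u ^ i * (a ^ j * b ^ l) ∈ K u := fun i j l =>
    mul_mem (pow_mem C.u_mem i) (mul_mem
      (pow_mem (C.mem_K_U.2 ⟨h.symm.eq, odd_of_pow_three ha3⟩) j)
      (pow_mem (C.mem_K_U.2 ⟨hub.symm.eq, odd_of_pow_three hb3⟩) l))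
  have hc : ∀ i j l i' j' l' : ℕ, Commute (u ^ i * (a ^ j * b ^ l)) (u ^ i' * (a ^ j' * b ^ l')) := by
    intro i j l i' j' l'
    exact ((Commute.pow_pow_self u i i').mul_right ((h.pow_pow i j').mul_right (hub.pow_pow i l'))).mul_left
      (((h.symm.pow_pow j i').mul_right ((Commute.pow_pow_self a j j').mul_right
        (hab.pow_pow j l'))).mul_left ((hub.symm.pow_pow l i').mul_right
        ((hab.symm.pow_pow l j').mul_right (Commute.pow_pow_self b l l'))))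
  let f : Fin 3 × Fin 3 × Fin 3 → K u := fun p => ⟨_, hmem p.1.val p.2.1.val p.2.2.val⟩
  have hf : Function.Injective f := by
    rintro ⟨i, j, l⟩ ⟨i', j', l'⟩ e
    have e : u ^ i.val * (a ^ j.val * b ^ l.val) = u ^ i'.val * (a ^ j'.val * b ^ l'.val) :=
      congrArg Subtype.val e
    have conjH : ∀ i j l : ℕ, C.φ mH * (u ^ i * (a ^ j * b ^ l)) * (C.φ mH)⁻¹ =
        u ^ i * ((a ^ j)⁻¹ * (b ^ l)⁻¹) := by
      intro i j l
      rw [show C.φ mH * (u ^ i * (a ^ j * b ^ l)) * (C.φ mH)⁻¹ = C.φ mH * u ^ i * (C.φ mH)⁻¹ *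
        ((C.φ mH * a ^ j * (C.φ mH)⁻¹) * (C.φ mH * b ^ l * (C.φ mH)⁻¹)) by group, ← conj_pow,
        ← conj_pow, ← conj_pow, hHa, hHb, hu, C.H_inv_U, inv_pow, inv_pow]
    have e1 := congrArg (fun z => C.φ mH * z * (C.φ mH)⁻¹) e
    simp only [conjH] at e1
    have sq : ∀ i j l : ℕ, u ^ i * (a ^ j * b ^ l) * (u ^ i * ((a ^ j)⁻¹ * (b ^ l)⁻¹)) =
        u ^ i * u ^ i := by
      intro i j l
      rw [(((h.pow_pow i j).inv_right).mul_right (hub.pow_pow i l).inv_right).eq,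
        ← mul_assoc, mul_assoc (u ^ i) (a ^ j * b ^ l), (hab.pow_pow j l).inv_inv.eq, ← mul_inv_rev,
        mul_inv_cancel, mul_one]
    have ei : u ^ i.val = u ^ i'.val := cancel u hu3 _ _ (by rw [← sq _ j l, ← sq _ j' l', e1, e])
    rw [ei, mul_right_inj] at e
    have conjG : ∀ j l : ℕ, C.φ mG * (a ^ j * b ^ l) * (C.φ mG)⁻¹ = a ^ j * (b ^ l)⁻¹ := by
      intro j l
      rw [show C.φ mG * (a ^ j * b ^ l) * (C.φ mG)⁻¹ =
        (C.φ mG * a ^ j * (C.φ mG)⁻¹) * (C.φ mG * b ^ l * (C.φ mG)⁻¹) by group, ← conj_pow,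
        ← conj_pow, hGa, hGb, inv_pow]
    have e2 := congrArg (fun z => C.φ mG * z * (C.φ mG)⁻¹) e
    simp only [conjG] at e2
    have sq2 : ∀ j l : ℕ, a ^ j * b ^ l * (a ^ j * (b ^ l)⁻¹) = a ^ j * a ^ j := by
      intro j l
      rw [mul_assoc, ← mul_assoc (b ^ l), ← (hab.pow_pow j l).eq, mul_inv_cancel_right]
    have ej : a ^ j.val = a ^ j'.val := cancel a ha3 _ _ (by rw [← sq2 _ l, ← sq2 _ l', e2, e])
    rw [ej, mul_right_inj] at e
    have inj : ∀ {x : G}, x ^ 3 = 1 → x ≠ 1 → ∀ {p p' : Fin 3}, x ^ p.val = x ^ p'.val → p = p' :=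
      fun {x} h3 h1 {p p'} he => Fin.ext (pow_injOn_Iio_orderOf
        (by rw [orderOf_eq_prime h3 h1]; exact p.isLt)
        (by rw [orderOf_eq_prime h3 h1]; exact p'.isLt) he)
    have ha1 : a ≠ 1 := (trans_conj C.trans_U c).2.1
    have hb1 : b ≠ 1 := (trans_conj C.trans_U (c * c)).2.1
    exact Prod.ext (inj hu3 hu1 ei) (Prod.ext (inj ha3 ha1 ej) (inj hb3 hb1 e))
  have hsurj : Function.Surjective f :=
    (hf.bijective_of_nat_card_le (by rw [hu, C.card_K_U]; simp)).2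
  intro x hx y hy
  obtain ⟨p, hp⟩ := hsurj ⟨x, hx⟩
  obtain ⟨p', hp'⟩ := hsurj ⟨y, hy⟩
  rw [show x = _ from (congrArg Subtype.val hp).symm,
    show y = _ from (congrArg Subtype.val hp').symm]
  exact (hc _ _ _ _ _ _).eq

include cH cG cHG c3 in
theorem relations (hwc : C.φ mW * c * (C.φ mW * c) = C.φ mG) :
    C.φ mU * (c * C.φ mU * c⁻¹) * (C.φ mU)⁻¹ =
      C.φ mW * (c * C.φ mU * c⁻¹) * (C.φ mW)⁻¹ * (c * C.φ mU * c⁻¹) ∧
    Commute (C.φ mU) (c * C.φ mL * c⁻¹) ∧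
    Commute (C.φ mU) (C.φ mW * (c * C.φ mU * c⁻¹) * (C.φ mW)⁻¹) := by
  have hnc := C.noncomm cH cG cHG c3
  have hnU := C.not_commute_cU cH cG cHG c3
  set u := C.φ mU with hu
  set w := C.φ mW with hw
  set Y := c * u * c⁻¹ with hY
  set Z := w * Y * w⁻¹ with hZdef
  have hci := C.c_inv_eq c3
  have hC : Commute u (c * C.φ mL * c⁻¹) :=
    (C.commute_fixed (Or.inl rfl) (Or.inr rfl) cH (by rw [← cHG]; group)).resolve_left hnU
  have hC2 : Commute u (c * c * C.φ mL * (c * c)⁻¹) := by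
    refine (C.commute_fixed (a := mH * mG) (b := mG) (q := c * c) (Or.inr rfl) (Or.inl rfl)
      (by rw [show c * c * C.φ mH * (c * c)⁻¹ = c * (c * C.φ mH * c⁻¹) * c⁻¹ by group, cH, cG])
      (by rw [← hci, inv_inv, cH])).resolve_left fun h => hnU ?_
    have := h.map (MulAut.conj c).toMonoidHom
    simp only [MulEquiv.coe_toMonoidHom, MulAut.conj_apply] at this
    rw [show c * (c * c * C.φ mU * (c * c)⁻¹) * c⁻¹ = c * c * c * C.φ mU * (c * c * c)⁻¹ by group,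
      c3, inv_one, mul_one, one_mul] at this
    exact this.symm
  have hZ : Z = c * c * C.φ mL * (c * c)⁻¹ := by
    have hwu : w⁻¹ * u * w = (C.φ mL)⁻¹ := by
      rw [hw, hu, ← map_inv, ← map_inv, ← map_mul, ← map_mul]
      exact congrArg _ (by decide +kernel)
    have hgL : C.φ (mH * mG) * C.φ mL * (C.φ (mH * mG))⁻¹ = (C.φ mL)⁻¹ := by
      rw [← map_inv C.φ mL]; exact C.conj_eq (by decide +kernel)
    have hwc' : w * c = C.φ mG * (w * c)⁻¹ := by rw [← hwc, mul_inv_cancel_right]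
    have hcg : C.φ mG * (c * c) = c * c * C.φ (mH * mG) := by
      rw [← hci]
      calc C.φ mG * c⁻¹ = c⁻¹ * (c * C.φ mG * c⁻¹) := by group
        _ = c⁻¹ * C.φ (mH * mG) := by rw [cG]
    calc Z = w * c * u * (w * c)⁻¹ := by rw [hZdef, hY]; group
      _ = C.φ mG * c⁻¹ * (w⁻¹ * u * w) * (C.φ mG * c⁻¹)⁻¹ := by rw [hwc']; group
      _ = c * c * (C.φ (mH * mG) * (C.φ mL)⁻¹ * (C.φ (mH * mG))⁻¹) * (c * c)⁻¹ := by
          rw [hwu, hci, hcg]; group
      _ = c * c * C.φ mL * (c * c)⁻¹ := by rw [← conj_inv, hgL, inv_inv]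
  have hR : Commute u Z := hZ ▸ hC2
  have hYZ : Commute Y Z := by
    have := hC.map (MulAut.conj c).toMonoidHom
    simp only [MulEquiv.coe_toMonoidHom, MulAut.conj_apply] at this
    rw [hZ, hY]
    convert this using 1
    group
  have hLY : Commute (C.φ mL) Y := by
    have := hC2.map (MulAut.conj c).toMonoidHom
    simp only [MulEquiv.coe_toMonoidHom, MulAut.conj_apply] at this
    rw [show c * (c * c * C.φ mL * (c * c)⁻¹) * c⁻¹ = c * c * c * C.φ mL * (c * c * c)⁻¹ by group,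
      c3, inv_one, mul_one, one_mul] at this
    exact this.symm
  have hTY : Trans Y := trans_conj C.trans_U c
  have hTZ : Trans Z := trans_conj hTY w
  set l := (C.φ mL)⁻¹ with hl
  have hwul : w = u * l * u := by
    rw [hw, hl, hu, ← map_inv, ← map_mul, ← map_mul]
    exact congrArg _ rels.2.2.2.2.2.2.2.2.2.2.2.2.2.2.2.1
  obtain ⟨i, hi, ei⟩ := C.comm_mod hnc hTZ
    ((C.mem_K hTZ).2 ⟨hR.eq, odd_of_pow_three C.trans_U.1⟩)
    ((C.mem_K hTZ).2 ⟨hYZ.eq, odd_of_pow_three hTY.1⟩)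
  obtain ⟨j, hj, ej⟩ := C.comm_mod hnc hTY
    ((C.mem_K hTY).2 ⟨hLY.inv_left.eq, odd_of_pow_three (by
      rw [inv_pow, C.trans_L.1, inv_one])⟩)
    ((C.mem_K hTY).2 ⟨hYZ.symm.eq, odd_of_pow_three hTZ.1⟩)
  have hlY : l * Y * l⁻¹ = Y := by rw [hl, hLY.inv_left.eq, mul_inv_cancel_right]
  have hlZ : l * Z ^ i * l⁻¹ = Y ^ (j * i) * Z ^ i := by
    rw [← conj_pow, ej, (hYZ.pow_left j).mul_pow, ← pow_mul]
  have huY : ∀ k : ℕ, u * Y ^ k * u⁻¹ = Z ^ (i * k) * Y ^ k := by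
    intro k
    rw [← conj_pow, ei, (hYZ.symm.pow_left i).mul_pow, ← pow_mul]
  have huZ : ∀ k : ℕ, u * Z ^ k * u⁻¹ = Z ^ k := fun k => by
    rw [(hR.pow_right k).eq, mul_inv_cancel_right]
  have main : Z = Z ^ (i * (j * i + 1) + i) * Y ^ (j * i + 1) := by
    calc Z = u * (l * (u * Y * u⁻¹) * l⁻¹) * u⁻¹ := by
            conv_lhs => rw [hZdef, hwul]
            group
      _ = u * ((l * Z ^ i * l⁻¹) * (l * Y * l⁻¹)) * u⁻¹ := by rw [ei]; group
      _ = u * (Y ^ (j * i + 1) * Z ^ i) * u⁻¹ := by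
          rw [hlZ, hlY, mul_assoc (Y ^ (j * i)), ← (hYZ.pow_right i).eq, ← mul_assoc (Y ^ (j * i)), ← pow_succ]
      _ = (u * Y ^ (j * i + 1) * u⁻¹) * (u * Z ^ i * u⁻¹) := by group
      _ = _ := by
          rw [huY, huZ, mul_assoc, (hYZ.pow_pow _ _).eq, ← mul_assoc, ← pow_add]
  have hGY : C.φ mG * Y * (C.φ mG)⁻¹ = Y := by
    rw [← cH, hY, show c * C.φ mH * c⁻¹ * (c * u * c⁻¹) * (c * C.φ mH * c⁻¹)⁻¹ =
      c * (C.φ mH * u * (C.φ mH)⁻¹) * c⁻¹ by group, hu, C.H_inv_U]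
  have hGZ : C.φ mG * Z * (C.φ mG)⁻¹ = Z⁻¹ := by
    have e : c * c * C.φ (mH * mG) * (c * c)⁻¹ = C.φ mG := by
      rw [show c * c * C.φ (mH * mG) * (c * c)⁻¹ = c * (c * C.φ (mH * mG) * c⁻¹) * c⁻¹ by group,
        cHG, cH]
    rw [← e, hZ, show c * c * C.φ (mH * mG) * (c * c)⁻¹ * (c * c * C.φ mL * (c * c)⁻¹) *
      (c * c * C.φ (mH * mG) * (c * c)⁻¹)⁻¹ =
      c * c * (C.φ (mH * mG) * C.φ mL * (C.φ (mH * mG))⁻¹) * (c * c)⁻¹ by group,
      show C.φ (mH * mG) * C.φ mL * (C.φ (mH * mG))⁻¹ = (C.φ mL)⁻¹ by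
        rw [← map_inv C.φ mL]; exact C.conj_eq (by decide +kernel), conj_inv]
  generalize hp : i * (j * i + 1) + i = p at main
  generalize hq : j * i + 1 = q at main hp
  have e2 := congrArg (fun z => C.φ mG * z * (C.φ mG)⁻¹) main
  rw [show C.φ mG * (Z ^ p * Y ^ q) * (C.φ mG)⁻¹ =
    (C.φ mG * Z ^ p * (C.φ mG)⁻¹) * (C.φ mG * Y ^ q * (C.φ mG)⁻¹) by group, ← conj_pow,
    ← conj_pow, hGY, hGZ, inv_pow] at e2
  have hYq : Y ^ (2 * q) = 1 := by
    have h1 : Z * Z⁻¹ = (Z ^ p * Y ^ q) * ((Z ^ p)⁻¹ * Y ^ q) := by rw [← main, ← e2]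
    rw [mul_inv_cancel, mul_assoc, ← mul_assoc (Y ^ q), ((hYZ.pow_pow q p).inv_right).eq,
      mul_assoc, mul_inv_cancel_left, ← pow_add] at h1
    rw [two_mul]; exact h1.symm
  have hoY : orderOf Y = 3 := orderOf_eq_prime hTY.1 hTY.2.1
  have hoZ : orderOf Z = 3 := orderOf_eq_prime hTZ.1 hTZ.2.1
  have hq3 : 3 ∣ 2 * q := hoY ▸ orderOf_dvd_of_pow_eq_one hYq
  have hq1 : Y ^ q = 1 := orderOf_dvd_iff_pow_eq_one.1 (hoY ▸ (by omega : 3 ∣ q))
  rw [hq1, mul_one] at main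
  have hp1 : p % 3 = 1 := by
    have h := pow_inj_mod (x := Z) (m := p) (n := 1) |>.1 (by rw [pow_one, ← main])
    rw [hoZ] at h
    omega
  have hi1 : i = 1 := by
    interval_cases i <;> interval_cases j <;> omega
  subst hi1
  refine ⟨?_, hC, hR⟩
  rw [ei, pow_one]

end

end CfsgLib.GL23.PSL33.Ctx
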