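import Cfsg.Agent.Lib.GL23.PSL33.Model
import Cfsg.Agent.Lib.Transfer.Basic
import Cfsg.Agent.Lib.InvChar.InvolutionCount
import Cfsg.Prelude.Def_Transfer
import Mathlib.GroupTheory.Sylow

/-!
A group without subgroups of index two in which the centralizer of an involution is `GL(2, 3)` is
simple.
-/

set_option autoImplicit false
set_option linter.style.haveILetI false

namespace CfsgLib.GL23.PSL33

open Subgroup

variable {G : Type*} [Group G] {t : G}

/-- The embedding of `GL(2, 3)` given by the centralizer. -/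
def emb (e : Ct t ≃* M) : M →* G := (Ct t).subtype.comp e.symm.toMonoidHom

theorem emb_apply (e : Ct t ≃* M) (a : M) : emb e a = (e.symm a : G) := rfl

theorem emb_injective (e : Ct t ≃* M) : Function.Injective (emb e) :=
  (Ct t).subtype_injective.comp e.symm.injective

theorem emb_mH (e : Ct t ≃* M) (ht : orderOf t = 2) : emb e mH = t := by
  have h : e (tC t) = mH := coords_injective ((cc_tC e ht).trans coords_consts.1.symm)
  rw [emb_apply, ← h, e.symm_apply_apply]
  rfl

theorem exists_emb (e : Ct t ≃* M) {x : G} (hx : x * t = t * x) : ∃ a, emb e a = x :=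
  ⟨e ⟨x, mem_Ct.2 hx⟩, by rw [emb_apply, e.symm_apply_apply]⟩

theorem emb_comm (e : Ct t ≃* M) (a : M) : emb e a * t = t * emb e a := mem_Ct.1 (e.symm a).2

theorem pC_involution : ∀ x ∈ gl.filter pC, tmul x x = (1, 0, 0, 1) → x ≠ (1, 0, 0, 1) →
    x = (2, 0, 0, 2) := by decide +kernel

/-- The involutions and the identity. -/
def invs : Finset T := gl.filter fun x => tmul x x = (1, 0, 0, 1)

theorem invs_generate : ∀ x ∈ gl, ∃ a ∈ invs, ∃ b ∈ invs, ∃ c ∈ invs, tmul (tmul a b) c = x := by
  decide +kernel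

theorem exists_invs (x : M) : ∃ a b c : M, a * a = 1 ∧ b * b = 1 ∧ c * c = 1 ∧ a * b * c = x := by
  obtain ⟨a, ha, b, hb, c, hc, he⟩ := invs_generate _ (mem_gl x)
  obtain ⟨ha, ha2⟩ := Finset.mem_filter.1 ha
  obtain ⟨hb, hb2⟩ := Finset.mem_filter.1 hb
  obtain ⟨hc, hc2⟩ := Finset.mem_filter.1 hc
  obtain ⟨a, rfl⟩ := exists_coords (Finset.mem_filter.1 ha).2
  obtain ⟨b, rfl⟩ := exists_coords (Finset.mem_filter.1 hb).2
  obtain ⟨c, rfl⟩ := exists_coords (Finset.mem_filter.1 hc).2
  exact ⟨a, b, c, coords_injective (by rw [coords_mul, ha2, coords_one]),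
    coords_injective (by rw [coords_mul, hb2, coords_one]),
    coords_injective (by rw [coords_mul, hc2, coords_one]),
    coords_injective (by rw [coords_mul, coords_mul, he])⟩

/-- A subgroup of `GL(2, 3)` of odd order has order dividing three. -/
theorem card_dvd_three {A : Subgroup M} (hA : Odd (Nat.card A)) : Nat.card A ∣ 3 := by
  have h : Nat.card A ∣ 16 * 3 := by
    rw [show 16 * 3 = Nat.card M from card_M.symm]
    exact A.card_subgroup_dvd_card
  exact (Nat.Coprime.pow_right 4 (Nat.coprime_two_right.2 hA)).dvd_of_dvd_mul_left h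

theorem eq_one_of_odd_normal {A : Subgroup M} [A.Normal] (hA : Odd (Nat.card A)) : A = ⊥ := by
  classical
  rw [eq_bot_iff_forall]
  intro x hx
  by_contra h1
  have h3 : x ^ 3 = 1 := orderOf_dvd_iff_pow_eq_one.1
    ((A.orderOf_dvd_natCard hx).trans (card_dvd_three hA))
  obtain ⟨a, ha, ha'⟩ := no_normal_three h3 h1
  have hy : a⁻¹ * x * a ∈ A := by
    simpa using (inferInstance : A.Normal).conj_mem x hx a⁻¹
  have hcard : Nat.card A = 3 := by
    rcases (Nat.dvd_prime Nat.prime_three).1 (card_dvd_three hA) with h | h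
    · rw [Subgroup.card_eq_one] at h
      exact absurd (by simpa [h] using hx) h1
    · exact h
  have : Fact (Nat.Prime 3) := ⟨Nat.prime_three⟩
  have hz : (⟨a⁻¹ * x * a, hy⟩ : A) ∈ Subgroup.zpowers (⟨x, hx⟩ : A) :=
    mem_zpowers_of_prime_card hcard fun h => h1 (congrArg Subtype.val h)
  obtain ⟨i, hi⟩ := (isOfFinOrder_of_finite _).mem_zpowers_iff_mem_range_orderOf.1 hz |> fun h =>
    Finset.mem_image.1 h
  have hi' : x ^ i = a⁻¹ * x * a := by simpa using congrArg Subtype.val hi.2
  have hlt : i < 3 := by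
    have h := Finset.mem_range.1 hi.1
    rw [orderOf_eq_prime (Subtype.ext h3 : (⟨x, hx⟩ : A) ^ 3 = 1)
      fun h => h1 (congrArg Subtype.val h)] at h
    exact h
  interval_cases i
  · refine h1 ?_
    calc x = a * (a⁻¹ * x * a) * a⁻¹ := by group
      _ = 1 := by rw [← hi']; group
  · exact ha (by simpa using hi'.symm)
  · exact ha' (by simpa [pow_two] using hi'.symm)

section

variable [Finite G]

omit [Finite G] in
theorem not_index_two (hO : Cfsg.pResidual 2 G = ⊤) (H : Subgroup G) : H.index ≠ 2 := by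
  intro h
  have hle : Cfsg.pResidual 2 G ≤ H := by
    rw [Cfsg.pResidual, closure_le]
    intro x hx
    obtain ⟨j, hj⟩ := Nat.coprime_two_right.1 hx
    have hx1 : x = (x ^ (j + 1)) * (x ^ (j + 1)) := by
      rw [← pow_add, show j + 1 + (j + 1) = orderOf x + 1 by omega, pow_succ, pow_orderOf_eq_one,
        one_mul]
    rw [SetLike.mem_coe, hx1]
    exact mul_self_mem_of_index_two h _
  rw [hO, top_le_iff] at hle
  rw [hle, index_top] at h
  omega

/-- A Sylow `2`-subgroup lies in the centralizer. -/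
theorem exists_sylow (ht : orderOf t = 2) (e : Ct t ≃* M) :
    ∃ P : Sylow 2 G, (P : Subgroup G) = (sub pS pS_one pS_mul).map (emb e) := by
  haveI : Fact (Nat.Prime 2) := ⟨Nat.prime_two⟩
  let S : Subgroup G := (sub pS pS_one pS_mul).map (emb e)
  have hS : Nat.card S = 2 ^ 4 := by
    rw [card_map_of_injective (emb_injective e), card_sub, card_pS]; rfl
  obtain ⟨P, hP⟩ := (IsPGroup.of_card hS).exists_le_sylow
  obtain ⟨n, hn⟩ := IsPGroup.iff_card.1 P.isPGroup'
  refine ⟨P, (eq_of_le_of_card_ge hP ?_).symm⟩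
  have h5 : n ≤ 4 := by
    by_contra h
    exact sixteen_dvd_exactly ht e (((pow_dvd_pow 2 (show 5 ≤ n by omega)).trans
      (hn ▸ dvd_refl _)).trans (P : Subgroup G).card_subgroup_dvd_card)
  rw [hn, hS]
  exact Nat.pow_le_pow_right (by norm_num) h5

theorem exists_conj_eq (hO : Cfsg.pResidual 2 G = ⊤) (ht : orderOf t = 2) (e : Ct t ≃* M) {x : G}
    (h2 : x * x = 1) (h1 : x ≠ 1) : ∃ g : G, g * x * g⁻¹ = t := by
  by_contra hne
  obtain ⟨P, hP⟩ := exists_sylow ht e
  let Q : Subgroup G := (sub pC pC_one pC_mul).map (emb e)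
  have hQP : Q ≤ P := by
    rw [hP]
    exact map_mono fun a ha => ⟨Or.inl ha.1, ha.2⟩
  have hidx : Q.relIndex (P : Subgroup G) = 2 := by
    have h : Q.relIndex (P : Subgroup G) * Nat.card (Q.subgroupOf (P : Subgroup G)) =
        Nat.card (P : Subgroup G) := (Q.subgroupOf (P : Subgroup G)).index_mul_card
    have hQc : Nat.card Q = 8 := by
      rw [card_map_of_injective (emb_injective e), card_sub, card_pC]
    have hPc : Nat.card (P : Subgroup G) = 16 := by
      rw [hP, card_map_of_injective (emb_injective e), card_sub, card_pS]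
    rw [Nat.card_congr (subgroupOfEquivOfLe hQP).toEquiv, hQc, hPc] at h
    omega
  obtain ⟨N, -, hN, -⟩ := CfsgLib.Transfer.thompson_transfer P Q hidx x (by rw [pow_two, h2])
    fun g _ hgQ => by
      obtain ⟨a, ha, he⟩ := hgQ
      have ha2 : a * a = 1 := emb_injective e (by
        rw [map_mul, he, map_one, show g * x * g⁻¹ * (g * x * g⁻¹) = g * (x * x) * g⁻¹ by group,
          h2, mul_one, mul_inv_cancel])
      have ha1 : a ≠ 1 := by
        rintro rfl
        rw [map_one, eq_comm, mul_inv_eq_one] at he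
        exact h1 (mul_left_cancel (he.trans (mul_one g).symm))
      have hH : a = mH := coords_injective <| (pC_involution _
        (Finset.mem_filter.2 ⟨mem_gl _, ha⟩) (by rw [← coords_mul, ha2, coords_one])
        (fun h => ha1 (coords_injective (h.trans coords_one.symm)))).trans coords_consts.1.symm
      subst hH
      exact hne ⟨g, by rw [← he, emb_mH e ht]⟩
  exact not_index_two hO N hN

theorem isSimpleGroup (hO : Cfsg.pResidual 2 G = ⊤) (ht : orderOf t = 2) (e : Ct t ≃* M) :
    IsSimpleGroup G := by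
  haveI : Fact (Nat.Prime 2) := ⟨Nat.prime_two⟩
  letI : Fintype G := Fintype.ofFinite G
  haveI : Nontrivial G := ⟨⟨t, 1, t_ne_one ht⟩⟩
  refine ⟨fun N hN => ?_⟩
  haveI := hN
  by_cases hodd : Odd (Nat.card N)
  · left
    have hfree : ∀ v : G, orderOf v = 2 → ∀ x ∈ N, Commute x v → x = 1 := by
      intro v hv x hx hxv
      obtain ⟨g, hg⟩ := exists_conj_eq hO ht e (sq_t hv) (t_ne_one hv)
      have hy : g * x * g⁻¹ ∈ N := hN.conj_mem x hx g
      have hc : g * x * g⁻¹ * t = t * (g * x * g⁻¹) := by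
        rw [← hg]
        exact (hxv.map (MulAut.conj g).toMonoidHom).eq
      obtain ⟨a, ha⟩ := exists_emb e hc
      have hA : Odd (Nat.card (N.comap (emb e))) :=
        hodd.of_dvd_nat (card_comap_dvd_of_injective N _ (emb_injective e))
      have : a ∈ N.comap (emb e) := by rw [mem_comap, ha]; exact hy
      rw [eq_one_of_odd_normal hA, mem_bot] at this
      rw [this, map_one, eq_comm, mul_inv_eq_one] at ha
      exact mul_left_cancel (ha.trans (mul_one g).symm)
    have hinv : ∀ a : M, a * a = 1 → a ≠ 1 → ∀ x ∈ N, emb e a * x * (emb e a)⁻¹ = x⁻¹ := by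
      intro a h2 h1
      have ho : orderOf (emb e a) = 2 := by
        rw [orderOf_injective _ (emb_injective e)]
        exact orderOf_eq_prime (by rw [pow_two, h2]) h1
      exact CfsgLib.InvChar.inverts_of_fixedPointFree ho (fun x hx => hN.conj_mem x hx _)
        (hfree _ ho)
    obtain ⟨hH2, hG2, hH1, hG1, hGH, hrest⟩ := rels
    have hHG2 : mH * mG * (mH * mG) = 1 := by decide +kernel
    have hHG1 : mH * mG ≠ 1 := by decide +kernel
    rw [eq_bot_iff_forall]
    intro x hx
    have e1 := hinv _ hHG2 hHG1 x hx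
    have e2 : emb e (mH * mG) * x * (emb e (mH * mG))⁻¹ =
        emb e mH * (emb e mG * x * (emb e mG)⁻¹) * (emb e mH)⁻¹ := by
      rw [map_mul]; group
    rw [hinv _ hG2 hG1 x hx, hinv _ hH2 hH1 _ (inv_mem hx), inv_inv, e1] at e2
    have hx2 : x ^ 2 = 1 := by rw [pow_two, ← inv_eq_iff_mul_eq_one]; exact e2
    refine orderOf_eq_one_iff.1 ?_
    rcases (Nat.dvd_prime Nat.prime_two).1 (orderOf_dvd_of_pow_eq_one hx2) with h | h
    · exact h
    · exact absurd (hodd.of_dvd_nat (h ▸ N.orderOf_dvd_natCard hx)) (by decide)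
  · right
    have h2 : 2 ∣ Nat.card N := even_iff_two_dvd.1 (Nat.not_odd_iff_even.1 hodd)
    obtain ⟨v, hv⟩ := exists_prime_orderOf_dvd_card' 2 h2
    have hv2 : orderOf (v : G) = 2 := by rw [Subgroup.orderOf_coe, hv]
    obtain ⟨g, hg⟩ := exists_conj_eq hO ht e (sq_t hv2) (t_ne_one hv2)
    have htN : t ∈ N := hg ▸ hN.conj_mem _ v.2 g
    have hinvN : ∀ a : M, a * a = 1 → emb e a ∈ N := by
      intro a ha
      rcases eq_or_ne a 1 with rfl | h1
      · rw [map_one]; exact one_mem _
      obtain ⟨k, hk⟩ := exists_conj_eq hO ht e (x := emb e a)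
        (by rw [← map_mul, ha, map_one]) fun h => h1 (emb_injective e (by rw [h, map_one]))
      have := hN.conj_mem t htN k⁻¹
      rw [← hk] at this
      simpa [mul_assoc] using this
    have hC : ∀ a : M, emb e a ∈ N := by
      intro a
      obtain ⟨p, q, r, hp, hq, hr, rfl⟩ := exists_invs a
      rw [map_mul, map_mul]
      exact mul_mem (mul_mem (hinvN p hp) (hinvN q hq)) (hinvN r hr)
    obtain ⟨P, hP⟩ := exists_sylow ht e
    have hPN : (P : Subgroup G) ≤ N := by
      rw [hP]
      rintro _ ⟨a, -, rfl⟩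
      exact hC a
    refine top_le_iff.1 ?_
    rw [← P.normalizer_sup_eq_top' hPN]
    refine sup_le (fun x hx => ?_) le_rfl
    have hx' := mem_normalizer_iff_map_conj_eq.1 hx
    have htP : t ∈ (P : Subgroup G) := by
      rw [hP]
      refine ⟨mH, ?_, emb_mH e ht⟩
      show pS (coords mH)
      rw [coords_consts.1]; decide +kernel
    have hy : x * t * x⁻¹ ∈ (P : Subgroup G) := by
      rw [← hx']; exact ⟨t, htP, rfl⟩
    rw [hP] at hy
    obtain ⟨a, ha, hae⟩ := hy
    have haH : a = mH := by
      refine coords_injective ((pS_central _ (Finset.mem_filter.2 ⟨mem_gl _, ha⟩) ?_ ?_ ?_).trans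
        coords_consts.1.symm)
      · rw [← coords_mul, ← coords_one]
        refine congrArg coords (emb_injective e ?_)
        rw [map_mul, hae, map_one,
          show x * t * x⁻¹ * (x * t * x⁻¹) = x * (t * t) * x⁻¹ by group, sq_t ht]
        group
      · rw [← coords_one]
        intro h
        have := congrArg (emb e) (coords_injective h)
        rw [hae, map_one, mul_inv_eq_one] at this
        exact t_ne_one ht (mul_left_cancel (this.trans (mul_one x).symm))
      · intro y hy
        obtain ⟨hy0, hy1⟩ := Finset.mem_filter.1 hy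
        obtain ⟨b, rfl⟩ := exists_coords (Finset.mem_filter.1 hy0).2
        rw [← coords_mul, ← coords_mul]
        refine congrArg coords (emb_injective e ?_)
        rw [map_mul, map_mul, hae]
        have hbP : emb e b ∈ (P : Subgroup G) := by rw [hP]; exact ⟨b, hy1, rfl⟩
        rw [← hx'] at hbP
        obtain ⟨d, hd, hde⟩ := hbP
        rw [SetLike.mem_coe, hP] at hd
        obtain ⟨d, -, rfl⟩ := hd
        rw [← hde]
        exact ((show Commute t (emb e d) from (emb_comm e d).symm).map
          (MulAut.conj x).toMonoidHom).eq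
    subst haH
    rw [emb_mH e ht] at hae
    obtain ⟨b, hb⟩ := exists_emb e (mul_inv_eq_iff_eq_mul.1 hae.symm)
    exact hb ▸ hC b

end

end CfsgLib.GL23.PSL33
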